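import Mathlib
import Cfsg.Prelude.Def_Characters
import Cfsg.Prelude.Def_Blocks
import Cfsg.Agent.Characters.Core
import Cfsg.Agent.Characters.Clifford
import Cfsg.Agent.CharactersDeep.CliffordSum
import Cfsg.Agent.CharactersDeep.PrimeIndex
import Cfsg.Agent.CharactersDeep.ExtUnique
import Cfsg.Agent.OddOrderCharacters.Clifford

/-!
# The inner product of class functions with a `Finite` instance

`ip φ ψ` is `classInner φ ψ` for the instance `Fintype.ofFinite`.  Constituents of characters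
under homomorphisms, multiplicities, and Clifford theory for normal subgroups of prime index.
-/

set_option autoImplicit false
open scoped ComplexConjugate
open Cfsg Cfsg.Agent.Characters.Core Cfsg.Agent.Characters.Clifford

namespace Cfsg.Agent.H626

universe u

/-- The inner product for finite groups. -/
noncomputable def ip {G : Type*} [Group G] [Finite G] (φ ψ : G → ℂ) : ℂ :=
  @classInner G _ (Fintype.ofFinite G) φ ψ

section basic

variable {G : Type*} [Group G] [Finite G]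

theorem ip_eq [Fintype G] (φ ψ : G → ℂ) : ip φ ψ = classInner φ ψ := by
  unfold ip
  congr 1
  exact Subsingleton.elim _ _

theorem ip_add_left (φ₁ φ₂ ψ : G → ℂ) : ip (φ₁ + φ₂) ψ = ip φ₁ ψ + ip φ₂ ψ :=
  @classInner_add_left G _ (Fintype.ofFinite G) φ₁ φ₂ ψ

theorem ip_sub_left (φ₁ φ₂ ψ : G → ℂ) : ip (φ₁ - φ₂) ψ = ip φ₁ ψ - ip φ₂ ψ :=
  @classInner_sub_left G _ (Fintype.ofFinite G) φ₁ φ₂ ψ

theorem ip_smul_left (c : ℂ) (φ ψ : G → ℂ) : ip (c • φ) ψ = c * ip φ ψ :=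
  @classInner_smul_left G _ (Fintype.ofFinite G) c φ ψ

theorem ip_smul_right (c : ℂ) (φ ψ : G → ℂ) : ip φ (c • ψ) = conj c * ip φ ψ :=
  @classInner_smul_right G _ (Fintype.ofFinite G) c φ ψ

theorem ip_sum_left {ι : Type*} (s : Finset ι) (φ : ι → G → ℂ) (ψ : G → ℂ) :
    ip (∑ i ∈ s, φ i) ψ = ∑ i ∈ s, ip (φ i) ψ :=
  @classInner_sum_left G _ (Fintype.ofFinite G) ι s φ ψ

theorem ip_conj_symm (φ ψ : G → ℂ) : conj (ip φ ψ) = ip ψ φ :=
  @classInner_conj_symm G _ (Fintype.ofFinite G) φ ψ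

theorem ip_nat {χ ψ : G → ℂ} (hχ : IsCharacter G χ) (hψ : IsCharacter G ψ) :
    ∃ n : ℕ, ip χ ψ = n :=
  @classInner_isNat G _ (Fintype.ofFinite G) χ ψ hχ hψ

theorem ip_self {χ : G → ℂ} (hχ : IsIrrCharacter G χ) : ip χ χ = 1 :=
  @classInner_irr_self G _ (Fintype.ofFinite G) χ hχ

theorem ip_ne {χ ψ : G → ℂ} (hχ : IsIrrCharacter G χ) (hψ : IsIrrCharacter G ψ) (h : χ ≠ ψ) :
    ip χ ψ = 0 :=
  @classInner_irr_ne G _ (Fintype.ofFinite G) χ ψ hχ hψ h

theorem eq_of_ip_ne_zero {χ ψ : G → ℂ} (hχ : IsIrrCharacter G χ) (hψ : IsIrrCharacter G ψ)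
    (h : ip χ ψ ≠ 0) : χ = ψ := by
  by_contra hne
  exact h (ip_ne hχ hψ hne)

theorem ip_comm {χ ψ : G → ℂ} (hχ : IsCharacter G χ) (hψ : IsCharacter G ψ) :
    ip χ ψ = ip ψ χ := by
  obtain ⟨n, hn⟩ := ip_nat hχ hψ
  rw [← ip_conj_symm χ ψ, hn, Complex.conj_natCast]

theorem isCharacter_sub {Θ ψ : G → ℂ} (hΘ : IsCharacter G Θ)
    (hψ : IsIrrCharacter G ψ) (hc : ip Θ ψ ≠ 0) : IsCharacter G (Θ - ψ) :=
  @Cfsg.Agent.OddOrderCharacters.Clifford.isCharacter_sub_irr G _ (Fintype.ofFinite G) Θ ψ hΘ hψ hc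

theorem ip_comp_equiv {H : Type*} [Group H] [Finite H] (e : H ≃* G) (φ ψ : G → ℂ) :
    ip (φ ∘ e) (ψ ∘ e) = ip φ ψ := by
  have := Fintype.ofFinite G
  have := Fintype.ofFinite H
  rw [ip_eq, ip_eq, classInner_comp_mulEquiv]

/-- Conjugating both arguments. -/
theorem ip_conj_conj (φ ψ : G → ℂ) :
    ip (fun g => conj (φ g)) (fun g => conj (ψ g)) = conj (ip φ ψ) := by
  have := Fintype.ofFinite G
  rw [ip_eq, ip_eq, classInner_def, classInner_def, map_mul, map_sum]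
  simp

/-- A linear character (irreducible of degree one). -/
structure Lin {P : Type*} [Group P] (l : P → ℂ) : Prop where
  irr : IsIrrCharacter P l
  one : l 1 = 1

theorem isIrr_of_apply_one {P : Type*} [Group P] [Finite P] {l : P → ℂ} (h : IsCharacter P l)
    (h1 : l 1 = 1) : IsIrrCharacter P l := by
  classical
  have := Fintype.ofFinite P
  have := finite_irr (G := P)
  have := Fintype.ofFinite (IrrCharacter P)
  obtain ⟨m, hm⟩ := isCharacter_iff.1 h
  choose d hd0 hd using fun ψ : IrrCharacter P => isIrr_apply_one ψ.2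
  have h2 : (1 : ℂ) = ∑ ψ : IrrCharacter P, (m ψ : ℂ) * d ψ := by
    rw [← h1, hm, Finset.sum_apply]
    refine Finset.sum_congr rfl fun ψ _ => ?_
    rw [Pi.smul_apply, hd, nsmul_eq_mul]
  have h3 : 1 = ∑ ψ : IrrCharacter P, m ψ * d ψ := by exact_mod_cast h2
  obtain ⟨ψ, -, hψ⟩ : ∃ ψ ∈ Finset.univ, m ψ * d ψ ≠ 0 := by
    apply Finset.exists_ne_zero_of_sum_ne_zero
    rw [← h3]
    exact one_ne_zero
  have h4 : ∑ ψ' ∈ Finset.univ.erase ψ, m ψ' * d ψ' = 0 ∧ m ψ * d ψ = 1 := by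
    have h5 := Finset.add_sum_erase Finset.univ (fun ψ => m ψ * d ψ) (Finset.mem_univ ψ)
    have h6 : 0 < m ψ * d ψ := Nat.pos_of_ne_zero hψ
    constructor
    · omega
    · omega
  have h7 : l = (ψ : P → ℂ) := by
    rw [hm, ← Finset.add_sum_erase Finset.univ _ (Finset.mem_univ ψ)]
    rw [Finset.sum_eq_zero (s := Finset.univ.erase ψ), add_zero,
      Nat.eq_one_of_mul_eq_one_right h4.2, one_smul]
    intro ψ' hψ'
    have := Finset.sum_eq_zero_iff.1 h4.1 ψ' hψ'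
    rcases mul_eq_zero.1 this with h8 | h8
    · rw [h8, zero_smul]
    · exact absurd h8 (hd0 ψ').ne'
  rw [h7]
  exact ψ.2

theorem Lin.comp {P Q : Type*} [Group P] [Group Q] [Finite Q] {l : P → ℂ} (h : Lin l)
    (j : Q →* P) : Lin (l ∘ j) := by
  have h1 : (l ∘ j) 1 = 1 := by simp [h.one]
  exact ⟨isIrr_of_apply_one (isCharacter_comp j (isIrr_isCharacter h.irr)) h1, h1⟩

/-- If `X` contains `l` then `X ∘ j` contains `l ∘ j`. -/
theorem ip_comp_ne_zero {P Q : Type*} [Group P] [Finite P] [Group Q] [Finite Q] {X l : P → ℂ}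
    (hX : IsCharacter P X) (hl : Lin l) (h : ip X l ≠ 0) (j : Q →* P) :
    ip (X ∘ j) (l ∘ j) ≠ 0 := by
  have h1 := isCharacter_sub hX hl.irr h
  have h2 : X ∘ j = l ∘ j + (X - l) ∘ j := by
    funext x
    simp
  rw [h2, ip_add_left, ip_self (hl.comp j).irr]
  obtain ⟨n, hn⟩ := ip_nat (isCharacter_comp j h1) (isIrr_isCharacter (hl.comp j).irr)
  rw [hn]
  intro h4
  have h5 : 1 + n = 0 := by exact_mod_cast h4
  omega

/-- If `X - l` contains `μ` and `l ∘ j = μ ∘ j` then `X ∘ j` contains `l ∘ j` at least twice. -/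
theorem ip_comp_ne_one {P Q : Type*} [Group P] [Finite P] [Group Q] [Finite Q] {X l μ : P → ℂ}
    (hX : IsCharacter P X) (hl : Lin l) (hμ : Lin μ) (h : ip X l ≠ 0) (h' : ip (X - l) μ ≠ 0)
    (j : Q →* P) (hj : μ ∘ j = l ∘ j) :
    ip (X ∘ j) (l ∘ j) ≠ 1 := by
  have h1 := isCharacter_sub hX hl.irr h
  have h3 := isCharacter_sub h1 hμ.irr h'
  have h2 : X ∘ j = l ∘ j + (μ ∘ j + (X - l - μ) ∘ j) := by
    funext x
    simp
  rw [h2, ip_add_left, ip_add_left, hj, ip_self (hl.comp j).irr]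
  obtain ⟨n, hn⟩ := ip_nat (isCharacter_comp j h3) (isIrr_isCharacter (hl.comp j).irr)
  rw [hn]
  intro h4
  have h5 : 1 + (1 + n) = 1 := by exact_mod_cast h4
  omega

/-- Decomposition: if `Y ∘ k` contains `ν` then some constituent `θ` of `Y` has `θ ∘ k`
containing `ν`. -/
theorem exists_constituent {M Q : Type*} [Group M] [Finite M] [Group Q] [Finite Q] {Y : M → ℂ}
    (hY : IsCharacter M Y) (k : Q →* M) {ν : Q → ℂ} (h : ip (Y ∘ k) ν ≠ 0) :
    ∃ θ : M → ℂ, IsIrrCharacter M θ ∧ ip Y θ ≠ 0 ∧ ip (θ ∘ k) ν ≠ 0 := by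
  classical
  have := Fintype.ofFinite M
  have := finite_irr (G := M)
  have := Fintype.ofFinite (IrrCharacter M)
  by_contra hcon
  push Not at hcon
  apply h
  have h1 := classFunction_eq_sum (isCharacter_isClassFunction hY)
  have h2 : Y ∘ k = ∑ χ : IrrCharacter M, classInner Y (χ : M → ℂ) • ((χ : M → ℂ) ∘ k) := by
    funext x
    conv_lhs => rw [h1]
    simp [Finset.sum_apply]
  rw [h2, ip_sum_left]
  refine Finset.sum_eq_zero fun θ _ => ?_
  rw [ip_smul_left]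
  by_cases h3 : ip Y (θ : M → ℂ) = 0
  · rw [← ip_eq, h3, zero_mul]
  · rw [hcon θ θ.2 h3, mul_zero]

end basic

end Cfsg.Agent.H626
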