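import Mathlib
import Cfsg.Agent.H626.PrincipalOver
import Cfsg.Agent.Blocks.CyclicUpper
import Cfsg.Agent.CharactersDeep.NormalInd
import Cfsg.Agent.CharactersDeep.IndFun

/-!
# Characters of degree prime to `p` over characters of the Sylow normalizer

* `exists_over_index` : a character of degree prime to `p` of a subgroup of index prime to `p` lies under
  a character of degree prime to `p`.
* `normalizer_eq_of` : (`⇐` of S4934) if `1` is the only irreducible character of degree prime to `p`
  occurring in `(1_P)^G` then `N_G(P) = P` (every prime).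
* `normalizer_eq_sup_of` : (`⇐` of S4935) the same with the principal block and `P C_G(P)`.
-/

set_option autoImplicit false
open scoped ComplexConjugate
open Cfsg Cfsg.Agent.Characters.Core Cfsg.Agent.Blocks.Local Cfsg.Agent.Blocks.Basic

namespace Cfsg.Agent.H626

universe u

/-- A non-trivial finite group has a non-trivial irreducible character. -/
theorem exists_irr_ne_one {Q : Type*} [Group Q] [Finite Q] {g : Q} (hg : g ≠ 1) :
    ∃ μ : Q → ℂ, IsIrrCharacter Q μ ∧ μ ≠ fun _ => 1 := by
  classical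
  have := Fintype.ofFinite Q
  have := finite_irr (G := Q)
  have := Fintype.ofFinite (IrrCharacter Q)
  by_contra hcon
  push Not at hcon
  have hf : IsClassFunction Q (fun x : Q => if x = 1 then (1 : ℂ) else 0) := by
    intro x y
    simp
  have h1 := classFunction_eq_sum hf
  have h2 : ∀ x y : Q, (if x = 1 then (1 : ℂ) else 0) = if y = 1 then (1 : ℂ) else 0 := by
    intro x y
    have hx := congrFun h1 x
    have hy := congrFun h1 y
    simp only [Finset.sum_apply, Pi.smul_apply] at hx hy
    rw [hx, hy]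
    refine Finset.sum_congr rfl fun χ _ => ?_
    rw [hcon χ χ.2]
  have h3 := h2 1 g
  rw [if_pos rfl, if_neg hg] at h3
  exact one_ne_zero h3

/-- Going down: if `X` contains `l` and `l ∘ j` contains `ν` then `X ∘ j` contains `ν`. -/
theorem ip_comp_ne_zero_of {P Q : Type*} [Group P] [Finite P] [Group Q] [Finite Q]
    {X l : P → ℂ} {ν : Q → ℂ} (hX : IsCharacter P X) (hl : IsIrrCharacter P l) (h : ip X l ≠ 0)
    (j : Q →* P) (hν : IsCharacter Q ν) (hlν : ip (l ∘ j) ν ≠ 0) : ip (X ∘ j) ν ≠ 0 := by
  have h1 := isCharacter_sub hX hl h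
  have h2 : X ∘ j = l ∘ j + (X - l) ∘ j := by
    funext x
    simp
  rw [h2, ip_add_left]
  obtain ⟨n, hn⟩ := ip_nat (isCharacter_comp j h1) hν
  obtain ⟨m, hm⟩ := ip_nat (isCharacter_comp j (isIrr_isCharacter hl)) hν
  rw [hn, hm]
  rw [hm] at hlν
  intro h4
  have h5 : m + n = 0 := by exact_mod_cast h4
  have h6 : m ≠ 0 := by exact_mod_cast hlν
  omega

/-- A character of degree prime to `p` of a subgroup of index prime to `p` lies under a character of
degree prime to `p`. -/
theorem exists_over_index {G : Type*} [Group G] [Finite G] {p : ℕ} [hp : Fact p.Prime] (H : Subgroup G)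
    (hidx : ¬ p ∣ H.index) (μ : H → ℂ) (hμ : IsIrrCharacter H μ) (hdeg : ¬ p ∣ charDegree μ) :
    ∃ χ : IrrCharacter G, ¬ p ∣ charDegree (χ : G → ℂ) ∧
      ip (fun h : H => (χ : G → ℂ) h) μ ≠ 0 := by
  classical
  have := Fintype.ofFinite G
  have := Fintype.ofFinite H
  have := finite_irr (G := G)
  have := Fintype.ofFinite (IrrCharacter G)
  obtain ⟨m, hm⟩ := isCharacter_iff.1 (CharactersDeep.IndFun.isCharacter_indFun H
    (isIrr_isCharacter hμ))
  choose e he0 he using fun χ : IrrCharacter G => isIrr_apply_one χ.2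
  have h1 : (H.index * charDegree μ : ℕ) = ∑ χ : IrrCharacter G, m χ * e χ := by
    have h2 := congrFun hm 1
    rw [CharactersDeep.NormalInd.indFun_one, irr_one_eq_charDegree hμ, Finset.sum_apply] at h2
    have h3 : ∑ χ : IrrCharacter G, (m χ • (χ : G → ℂ)) 1 =
        ∑ χ : IrrCharacter G, ((m χ * e χ : ℕ) : ℂ) := by
      refine Finset.sum_congr rfl fun χ _ => ?_
      rw [Pi.smul_apply, he, nsmul_eq_mul]
      push_cast
      rfl
    rw [h3] at h2
    exact_mod_cast h2
  have h2 : ¬ p ∣ ∑ χ : IrrCharacter G, m χ * e χ := by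
    rw [← h1, hp.out.dvd_mul]
    exact not_or.2 ⟨hidx, hdeg⟩
  obtain ⟨χ, hχ⟩ : ∃ χ : IrrCharacter G, ¬ p ∣ m χ * e χ := by
    by_contra hcon
    push Not at hcon
    exact h2 (Finset.dvd_sum fun χ _ => hcon χ)
  refine ⟨χ, ?_, ?_⟩
  · rw [charDegree_of_eq (he χ)]
    exact fun h => hχ (h.mul_left _)
  · have h3 : classInner (indFun H μ) (χ : G → ℂ) = m χ := by
      rw [hm]
      have h4 : ∑ ψ : IrrCharacter G, m ψ • (ψ : G → ℂ) =
          ∑ ψ : IrrCharacter G, (m ψ : ℂ) • (ψ : G → ℂ) := by
        refine Finset.sum_congr rfl fun ψ _ => ?_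
        funext x
        simp
      rw [h4, classInner_sum_smul_irr]
    rw [CharactersDeep.NormalInd.classInner_indFun H μ _ (isIrr_isClassFunction χ.2), ← ip_eq,
      ip_comm (isIrr_isCharacter hμ)
        (Characters.Clifford.isCharacter_restrict H (isIrr_isCharacter χ.2))] at h3
    rw [h3]
    intro h4
    have h5 : m χ = 0 := by exact_mod_cast h4
    exact hχ (by rw [h5, zero_mul]; exact dvd_zero p)

/-- A nontrivial irreducible character of a group trivial on a proper normal subgroup of index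
prime to `p`; its degree is prime to `p`. -/
theorem exists_irr_of_normal {N : Type*} [Group N] [Finite N] {p : ℕ}
    (K : Subgroup N) [K.Normal] (hK : K ≠ ⊤) (hidx : ¬ p ∣ K.index) :
    ∃ μ : N → ℂ, IsIrrCharacter N μ ∧ (μ ≠ fun _ => 1) ∧ (∀ x ∈ K, μ x = μ 1) ∧
      ¬ p ∣ charDegree μ := by
  obtain ⟨g, hg⟩ : ∃ g : N, g ∉ K := by
    by_contra hcon
    push Not at hcon
    exact hK (eq_top_iff.2 fun x _ => hcon x)
  have hg' : (QuotientGroup.mk g : N ⧸ K) ≠ 1 := fun h => hg ((QuotientGroup.eq_one_iff g).1 h)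
  obtain ⟨μ, hμ, hμ1⟩ := exists_irr_ne_one hg'
  refine ⟨μ ∘ QuotientGroup.mk' K, isIrr_comp _ (QuotientGroup.mk'_surjective K) hμ, ?_, ?_, ?_⟩
  · intro h
    apply hμ1
    funext x
    obtain ⟨y, rfl⟩ := QuotientGroup.mk'_surjective K x
    exact congrFun h y
  · intro x hx
    change μ (QuotientGroup.mk x) = μ (QuotientGroup.mk 1)
    rw [(QuotientGroup.eq_one_iff x).2 hx]
    rfl
  · have h1 : charDegree (μ ∘ QuotientGroup.mk' K) = charDegree μ := by
      rw [charDegree, charDegree, Function.comp_apply, map_one]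
    rw [h1]
    intro h
    have h2 := h.trans (Blocks.CyclicUpper.charDegree_dvd hμ)
    rw [← Subgroup.index_eq_card] at h2
    exact hidx h2

section crit

variable {G : Type u} [Group G] [Finite G] {p : ℕ} [hp : Fact p.Prime]

theorem index_normalizer_not_dvd (P : Sylow p G) :
    ¬ p ∣ (Subgroup.normalizer ((P : Subgroup G) : Set G)).index := by
  intro h
  exact P.not_dvd_index (h.trans (Subgroup.index_dvd_of_le Subgroup.le_normalizer))

/-- If a character `l` of `N` is constant on `K ≤ N`, `X` of `G` lies over `l`, then `X` contains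
the trivial character of `K`. -/
theorem ip_trivial_of_over (K N : Subgroup G) (hKN : K ≤ N) {X : G → ℂ} (hX : IsCharacter G X)
    {l : N → ℂ} (hl : IsIrrCharacter N l) (h : ip (fun n : N => X n) l ≠ 0)
    (hK : ∀ x : N, (x : G) ∈ K → l x = l 1) : ip (fun k : K => X k) (fun _ => 1) ≠ 0 := by
  have h1 : IsCharacter N (fun n : N => X n) := Characters.Clifford.isCharacter_restrict N hX
  refine ip_comp_ne_zero_of h1 hl h (Subgroup.inclusion hKN)
    (isIrr_isCharacter isIrrCharacter_one) ?_
  have h2 : l ∘ (Subgroup.inclusion hKN) = (l 1) • (fun _ : K => (1 : ℂ)) := by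
    funext k
    rw [Function.comp_apply, hK _ k.2]
    simp
  rw [h2, ip_smul_left, ip_self isIrrCharacter_one, mul_one]
  exact irr_one_ne_zero hl

/-- (`⇐` of S4934) -/
theorem normalizer_eq_of (P : Sylow p G)
    (h : ∀ χ : IrrCharacter G, (χ : G → ℂ) ≠ (fun _ => (1 : ℂ)) →
      ip (fun x : (P : Subgroup G) => (χ : G → ℂ) x) (fun _ => 1) ≠ 0 →
        p ∣ charDegree (χ : G → ℂ)) :
    Subgroup.normalizer ((P : Subgroup G) : Set G) = (P : Subgroup G) := by
  by_contra hne
  set N := Subgroup.normalizer ((P : Subgroup G) : Set G) with hN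
  have hPN : (P : Subgroup G) ≤ N := Subgroup.le_normalizer
  have hlt : ((P : Subgroup G).subgroupOf N) ≠ ⊤ := by
    intro h1
    rw [Subgroup.subgroupOf_eq_top] at h1
    exact hne (le_antisymm h1 hPN)
  have hnorm : ((P : Subgroup G).subgroupOf N).Normal := Subgroup.normal_in_normalizer
  have hidx : ¬ p ∣ ((P : Subgroup G).subgroupOf N).index := by
    intro h1
    exact P.not_dvd_index (h1.trans (Subgroup.relIndex_dvd_index_of_le hPN))
  obtain ⟨μ, hμ, hμ1, hμK, hμd⟩ := exists_irr_of_normal _ hlt hidx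
  obtain ⟨χ, hχd, hχ⟩ := exists_over_index N (index_normalizer_not_dvd P) μ hμ hμd
  have h2 := ip_trivial_of_over (P : Subgroup G) N hPN (isIrr_isCharacter χ.2) hμ hχ
    (fun x hx => hμK x hx)
  refine hχd (h χ ?_ h2)
  intro h3
  have h4 : (fun n : N => (χ : G → ℂ) n) = fun _ => 1 := by
    funext n
    rw [h3]
  rw [h4] at hχ
  exact hμ1 (eq_of_ip_ne_zero isIrrCharacter_one hμ hχ).symm

/-- A normal Sylow subgroup is contained in every subgroup of index prime to `p`. -/
theorem le_of_not_dvd_index {N : Type*} [Group N] [Finite N] (P : Sylow p N)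
    (hP : (P : Subgroup N).Normal) (K : Subgroup N) (hK : ¬ p ∣ K.index) :
    (P : Subgroup N) ≤ K := by
  obtain ⟨Q⟩ : Nonempty (Sylow p K) := inferInstance
  have h1 : IsPGroup p ((Q : Subgroup K).map K.subtype) := Q.2.map _
  have h2 : ¬ p ∣ ((Q : Subgroup K).map K.subtype).index := by
    rw [Subgroup.index_map_subtype, hp.out.dvd_mul]
    exact not_or.2 ⟨Q.not_dvd_index, hK⟩
  have := Sylow.unique_of_normal P hP
  have h3 : P = h1.toSylow h2 := Subsingleton.elim _ _
  have h4 : (P : Subgroup N) = (Q : Subgroup K).map K.subtype := by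
    conv_lhs => rw [h3]
    rfl
  rw [h4]
  exact Subgroup.map_subtype_le _

/-- If the Sylow `p`-subgroup `P` of `N` is normal then every irreducible character of degree prime
to `p` constant on `P C_N(P)` is in the principal block. -/
theorem mem_principal_of_const {N : Type*} [Group N] [Finite N] {M : Ideal AlgInt}
    (hM : IsPModular p M) (P : Sylow p N) (hP : (P : Subgroup N).Normal) (μ : IrrCharacter N)
    (hdeg : ¬ p ∣ charDegree (μ : N → ℂ))
    (hK : ∀ x ∈ Subgroup.centralizer ((P : Subgroup N) : Set N), (μ : N → ℂ) x = (μ : N → ℂ) 1) :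
    μ ∈ principalBlock M N := by
  have hMp : M.IsPrime := isPrime_of_isPModular hM
  change SameBlock M (fun _ => 1) (μ : N → ℂ)
  intro g
  by_cases hg : g ∈ Subgroup.centralizer ((P : Subgroup N) : Set N)
  · have h1 : centralChar (fun _ : N => (1 : ℂ)) g - centralChar (μ : N → ℂ) g = 0 := by
      rw [centralChar, centralChar, hK g hg, mul_div_assoc, mul_div_assoc,
        div_self (irr_one_ne_zero μ.2), div_one, sub_self]
    rw [h1]
    exact memLocalIdeal_zero
  · have h2 : p ∣ (Subgroup.centralizer ({g} : Set N)).index := by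
      by_contra hcon
      have h3 := le_of_not_dvd_index P hP _ hcon
      apply hg
      rw [Subgroup.mem_centralizer_iff]
      intro y hy
      have := Subgroup.mem_centralizer_singleton_iff.1 (h3 hy)
      exact this
    have h3 : MemLocalIdeal M (((Subgroup.centralizer ({g} : Set N)).index : ℕ) : ℂ) :=
      (memLocalIdeal_natCast_iff hM _).2 h2
    have h4 : centralChar (fun _ : N => (1 : ℂ)) g - centralChar (μ : N → ℂ) g =
        (((Subgroup.centralizer ({g} : Set N)).index : ℕ) : ℂ) *
          (1 - (μ : N → ℂ) g * ((charDegree (μ : N → ℂ) : ℂ))⁻¹) := by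
      rw [centralChar, centralChar, irr_one_eq_charDegree μ.2]
      ring
    rw [h4]
    refine memLocalIdeal_mul_right h3 (memLocalRing_sub memLocalRing_one ?_)
    exact memLocalRing_mul (memLocalRing_of_isIntegral (Blocks.Central.isIntegral_irr μ.2 g))
      (memLocalRing_inv_natCast hM hdeg)

/-- (`⇐` of S4935) -/
theorem normalizer_eq_sup_of {M : Ideal AlgInt} (hM : IsPModular p M) (P : Sylow p G)
    (h : ∀ χ : IrrCharacter G, χ ∈ principalBlock M G → ¬ p ∣ charDegree (χ : G → ℂ) →
      ip (fun x : ↥((P : Subgroup G) ⊔ Subgroup.centralizer ((P : Subgroup G) : Set G)) =>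
        (χ : G → ℂ) x) (fun _ => 1) ≠ 0 → (χ : G → ℂ) = fun _ => (1 : ℂ)) :
    Subgroup.normalizer ((P : Subgroup G) : Set G) =
      (P : Subgroup G) ⊔ Subgroup.centralizer ((P : Subgroup G) : Set G) := by
  by_contra hne
  set N := Subgroup.normalizer ((P : Subgroup G) : Set G) with hN
  have hPN : (P : Subgroup G) ≤ N := Subgroup.le_normalizer
  have hCN : Subgroup.centralizer ((P : Subgroup G) : Set G) ≤ N :=
    Subgroup.centralizer_le_normalizer _
  let P' : Sylow p N := P.subtype hPN
  have hP'n : (P' : Subgroup N).Normal := Subgroup.normal_in_normalizer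
  have hC' : (Subgroup.centralizer ((P : Subgroup G) : Set G)).subgroupOf N =
      Subgroup.centralizer ((P' : Subgroup N) : Set N) := by
    ext x
    rw [Subgroup.mem_subgroupOf, Subgroup.mem_centralizer_iff, Subgroup.mem_centralizer_iff]
    constructor
    · intro hx y hy
      exact Subtype.ext (hx y hy)
    · intro hx y hy
      exact congrArg Subtype.val (hx ⟨y, hPN hy⟩ hy)
  have hK : ((P : Subgroup G) ⊔ Subgroup.centralizer ((P : Subgroup G) : Set G)).subgroupOf N =
      (P' : Subgroup N) ⊔ Subgroup.centralizer ((P' : Subgroup N) : Set N) := by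
    rw [Subgroup.subgroupOf_sup hPN hCN, hC']
    rfl
  have hnorm : (((P : Subgroup G) ⊔
      Subgroup.centralizer ((P : Subgroup G) : Set G)).subgroupOf N).Normal := by
    rw [hK]
    infer_instance
  have hlt : (((P : Subgroup G) ⊔ Subgroup.centralizer ((P : Subgroup G) : Set G)).subgroupOf N) ≠
      ⊤ := by
    intro h1
    rw [Subgroup.subgroupOf_eq_top] at h1
    exact hne (le_antisymm h1 (sup_le hPN hCN))
  have hidx : ¬ p ∣ (((P : Subgroup G) ⊔
      Subgroup.centralizer ((P : Subgroup G) : Set G)).subgroupOf N).index := by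
    intro h1
    refine P'.not_dvd_index (h1.trans (Subgroup.index_dvd_of_le ?_))
    rw [hK]
    exact le_sup_left
  obtain ⟨μ, hμ, hμ1, hμK, hμd⟩ := exists_irr_of_normal _ hlt hidx
  have hμB : (⟨μ, hμ⟩ : IrrCharacter N) ∈ principalBlock M N := by
    refine mem_principal_of_const hM P' hP'n ⟨μ, hμ⟩ hμd fun x hx => hμK x ?_
    rw [hK]
    exact Subgroup.mem_sup_right hx
  obtain ⟨χ, hχB, hχd, hχ⟩ := exists_over_principal hM P N hPN ⟨μ, hμ⟩ hμB hμd
  rw [ip_comm (isIrr_isCharacter hμ)
    (Characters.Clifford.isCharacter_restrict N (isIrr_isCharacter χ.2))] at hχ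
  have h2 := ip_trivial_of_over _ N (sup_le hPN hCN) (isIrr_isCharacter χ.2) hμ hχ
    (fun x hx => hμK x hx)
  have h3 := h χ hχB hχd h2
  have h4 : (fun n : N => (χ : G → ℂ) n) = fun _ => 1 := by
    funext n
    rw [h3]
  change ip (fun n : N => (χ : G → ℂ) n) μ ≠ 0 at hχ
  rw [h4] at hχ
  exact hμ1 (eq_of_ip_ne_zero isIrrCharacter_one hμ hχ).symm

/-- S4934 from the uniqueness part of S4936 for the trivial character of `P`. -/
theorem s4934_of [Fintype G] (P : Sylow p G) [Fintype ↥(P : Subgroup G)]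
    (huniq : Subgroup.normalizer ((P : Subgroup G) : Set G) = (P : Subgroup G) →
      ∀ χ : IrrCharacter G, ¬ p ∣ charDegree (χ : G → ℂ) →
        ip (fun x : (P : Subgroup G) => (χ : G → ℂ) x) (fun _ => 1) ≠ 0 →
          (χ : G → ℂ) = fun _ => 1) :
    Subgroup.normalizer ((P : Subgroup G) : Set G) = (P : Subgroup G) ↔
      ∀ χ : IrrCharacter G, (χ : G → ℂ) ≠ (fun _ => (1 : ℂ)) →
        classInner (indFun (P : Subgroup G) (fun _ => (1 : ℂ))) (χ : G → ℂ) ≠ 0 →
          p ∣ charDegree (χ : G → ℂ) := by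
  have key : ∀ χ : IrrCharacter G, classInner (indFun (P : Subgroup G) (fun _ => (1 : ℂ)))
      (χ : G → ℂ) = ip (fun x : (P : Subgroup G) => (χ : G → ℂ) x) (fun _ => 1) := by
    intro χ
    rw [CharactersDeep.NormalInd.classInner_indFun _ _ _ (isIrr_isClassFunction χ.2), ← ip_eq,
      ip_comm (isIrr_isCharacter isIrrCharacter_one)
        (Characters.Clifford.isCharacter_restrict _ (isIrr_isCharacter χ.2))]
  constructor
  · intro h χ hχ1 hχ
    by_contra hd
    rw [key] at hχ
    exact hχ1 (huniq h χ hd hχ)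
  · intro h
    refine normalizer_eq_of P fun χ hχ1 hχ => h χ hχ1 ?_
    rwa [key]

/-- S4935 from its direction `⇒`. -/
theorem s4935_of [Fintype G] {M : Ideal AlgInt} (hM : IsPModular p M) (P : Sylow p G)
    [Fintype ↥((P : Subgroup G) ⊔ Subgroup.centralizer ((P : Subgroup G) : Set G))]
    (hdir : Subgroup.normalizer ((P : Subgroup G) : Set G) =
      (P : Subgroup G) ⊔ Subgroup.centralizer ((P : Subgroup G) : Set G) →
      ∀ χ : IrrCharacter G, χ ∈ principalBlock M G → ¬ p ∣ charDegree (χ : G → ℂ) →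
        ip (fun x : ↥((P : Subgroup G) ⊔ Subgroup.centralizer ((P : Subgroup G) : Set G)) =>
          (χ : G → ℂ) x) (fun _ => 1) ≠ 0 → (χ : G → ℂ) = fun _ => 1) :
    Subgroup.normalizer ((P : Subgroup G) : Set G) =
      (P : Subgroup G) ⊔ Subgroup.centralizer ((P : Subgroup G) : Set G) ↔
      ∀ χ : IrrCharacter G, χ ∈ principalBlock M G → ¬ p ∣ charDegree (χ : G → ℂ) →
        classInner (indFun ((P : Subgroup G) ⊔ Subgroup.centralizer ((P : Subgroup G) : Set G))
          (fun _ => (1 : ℂ))) (χ : G → ℂ) ≠ 0 → (χ : G → ℂ) = fun _ => (1 : ℂ) := by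
  have key : ∀ χ : IrrCharacter G, classInner (indFun ((P : Subgroup G) ⊔
      Subgroup.centralizer ((P : Subgroup G) : Set G)) (fun _ => (1 : ℂ))) (χ : G → ℂ) =
        ip (fun x : ↥((P : Subgroup G) ⊔ Subgroup.centralizer ((P : Subgroup G) : Set G)) =>
          (χ : G → ℂ) x) (fun _ => 1) := by
    intro χ
    rw [CharactersDeep.NormalInd.classInner_indFun _ _ _ (isIrr_isClassFunction χ.2), ← ip_eq,
      ip_comm (isIrr_isCharacter isIrrCharacter_one)
        (Characters.Clifford.isCharacter_restrict _ (isIrr_isCharacter χ.2))]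
  constructor
  · intro h χ hχB hχd hχ
    rw [key] at hχ
    exact hdir h χ hχB hχd hχ
  · intro h
    refine normalizer_eq_sup_of hM P fun χ hχB hχd hχ => h χ hχB hχd ?_
    rwa [key]

end crit

end Cfsg.Agent.H626
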