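import Mathlib
import Cfsg.Agent.H626.IP
import Cfsg.Agent.Solvable.SchurZassenhausConj

/-!
# Real-valued irreducible characters of odd degree of solvable groups

`P` is a 2-group embedded in the finite solvable group `G` with odd index (a Sylow
2-subgroup), `l` a linear character of `P`.

* `unique` : there is at most one real-valued irreducible character of `G` of odd degree
  over `l`, and the multiplicity is one.
-/

set_option autoImplicit false
open scoped ComplexConjugate
open Cfsg Cfsg.Agent.Characters.Core Cfsg.Agent.Characters.Clifford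
  Cfsg.Agent.CharactersDeep.CliffordSum

namespace Cfsg.Agent.H626

universe u v

/-- Real-valued irreducible characters of odd degree. -/
structure RO {G : Type*} [Group G] (χ : G → ℂ) : Prop where
  irr : IsIrrCharacter G χ
  real : ∀ g, conj (χ g) = χ g
  odd : ∃ n : ℕ, Odd n ∧ χ 1 = n

section basic

variable {G : Type*} [Group G] [Finite G]

/-- A real-valued character of odd degree has a real-valued irreducible constituent of odd
degree. -/
theorem exists_RO {X : G → ℂ} (hX : IsCharacter G X) (hreal : ∀ g, conj (X g) = X g)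
    (hodd : ∃ n : ℕ, Odd n ∧ X 1 = n) : ∃ ψ : G → ℂ, RO ψ ∧ ip X ψ ≠ 0 := by
  classical
  have := Fintype.ofFinite G
  have := finite_irr (G := G)
  have := Fintype.ofFinite (IrrCharacter G)
  obtain ⟨m, hm⟩ := isCharacter_iff.1 hX
  have hm' : ∀ ψ : IrrCharacter G, ip X (ψ : G → ℂ) = m ψ := by
    intro ψ
    rw [ip_eq, hm]
    exact classInner_sum_nsmul_irr m ψ
  choose d hd0 hd using fun ψ : IrrCharacter G => isIrr_apply_one ψ.2
  obtain ⟨N, hN, hN'⟩ := hodd
  have h2 : (N : ℂ) = ∑ ψ : IrrCharacter G, (m ψ : ℂ) * d ψ := by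
    rw [← hN', hm, Finset.sum_apply]
    refine Finset.sum_congr rfl fun ψ _ => ?_
    rw [Pi.smul_apply, hd, nsmul_eq_mul]
  have h3 : N = ∑ ψ : IrrCharacter G, m ψ * d ψ := by exact_mod_cast h2
  by_contra hcon
  push Not at hcon
  let c : IrrCharacter G → IrrCharacter G := fun ψ => ⟨fun g => conj ((ψ : G → ℂ) g), isIrr_conj ψ.2⟩
  have hc : ∀ ψ, c (c ψ) = ψ := by
    intro ψ
    apply Subtype.ext
    funext g
    simp [c]
  have hmc : ∀ ψ, m (c ψ) = m ψ := by
    intro ψ
    have h4 : ip X (c ψ : G → ℂ) = conj (ip X (ψ : G → ℂ)) := by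
      rw [← ip_conj_conj]
      congr 1
      funext g
      exact (hreal g).symm
    rw [hm', hm', Complex.conj_natCast] at h4
    exact_mod_cast h4
  have hdc : ∀ ψ, d (c ψ) = d ψ := by
    intro ψ
    have h4 : ((c ψ : IrrCharacter G) : G → ℂ) 1 = conj ((ψ : G → ℂ) 1) := rfl
    rw [hd, hd, Complex.conj_natCast] at h4
    exact_mod_cast h4
  have h5 : ∑ ψ : IrrCharacter G, ((m ψ * d ψ : ℕ) : ZMod 2) = 0 := by
    refine Finset.sum_involution (fun ψ _ => c ψ) ?_ ?_ (fun ψ _ => Finset.mem_univ _)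
      (fun ψ _ => hc ψ)
    · intro ψ _
      rw [hmc, hdc]
      exact CharTwo.add_self_eq_zero _
    · intro ψ _ h6 h7
      apply h6
      have h8 : ∀ g, conj ((ψ : G → ℂ) g) = (ψ : G → ℂ) g := by
        intro g
        exact congrFun (congrArg Subtype.val h7) g
      by_cases h9 : Odd (d ψ)
      · have h10 := hcon (ψ : G → ℂ) ⟨ψ.2, h8, d ψ, h9, hd ψ⟩
        rw [hm'] at h10
        have h11 : m ψ = 0 := by exact_mod_cast h10
        rw [h11, zero_mul, Nat.cast_zero]
      · rw [Nat.not_odd_iff_even] at h9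
        exact (ZMod.natCast_eq_zero_iff_even).2 (h9.mul_left _)
  rw [← Nat.cast_sum, ← h3, ZMod.natCast_eq_zero_iff_even] at h5
  exact (Nat.not_even_iff_odd.2 hN) h5

omit [Finite G] in
theorem RO.conjNormal {M : Subgroup G} [M.Normal] {θ : M → ℂ} (h : RO θ) (g : G) :
    RO (θ ∘ (MulAut.conjNormal g : MulAut M)) := by
  refine ⟨isIrr_conjNormal h.irr g, fun x => h.real _, ?_⟩
  obtain ⟨n, hn, hn'⟩ := h.odd
  refine ⟨n, hn, ?_⟩
  simp [hn']

/-- The constituents of the restriction to a normal subgroup are again real of odd degree. -/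
theorem RO.constituent {χ : G → ℂ} (hχ : RO χ) (M : Subgroup G) [M.Normal] {θ : M → ℂ}
    (hθ : IsIrrCharacter M θ) (h : ip (fun m : M => χ m) θ ≠ 0) : RO θ := by
  classical
  have := Fintype.ofFinite G
  have := Fintype.ofFinite M
  obtain ⟨ψ, hψ, hψ'⟩ := exists_RO (isCharacter_restrict M (isIrr_isCharacter hχ.irr))
    (fun g => hχ.real g) (by
      obtain ⟨n, hn, hn'⟩ := hχ.odd
      exact ⟨n, hn, hn'⟩)
  rw [ip_eq] at h hψ'
  obtain ⟨g, hg⟩ := exists_conj_of_constituents M hχ.irr hψ.irr hθ hψ' h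
  rw [hg]
  exact hψ.conjNormal g

/-- Two characters with the same irreducible restriction to a normal subgroup. -/
theorem exists_twist {χ χ' : G → ℂ} (hχ : IsCharacter G χ) (hχ' : IsCharacter G χ')
    (M : Subgroup G) [M.Normal] {θ : M → ℂ} (hθ : IsIrrCharacter M θ)
    (h1 : (fun m : M => χ m) = θ) (h2 : (fun m : M => χ' m) = θ) :
    ∃ β : G →* ℂˣ, (∀ n ∈ M, β n = 1) ∧ ∀ g, χ' g = χ g * β g :=
  CharactersDeep.ExtUnique.exists_hom_mul_of_restrict_eq M hχ hχ' hθ (fun n => congrFun h1 n)
    (fun n => congrFun h2 n)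

/-- In prime index the multiplicity is one. -/
theorem mult_one (M : Subgroup G) [M.Normal] {p : ℕ} (hp : p.Prime) (hM : M.index = p)
    {χ : G → ℂ} (hχ : IsIrrCharacter G χ) {θ : M → ℂ} (hθ : IsIrrCharacter M θ)
    (h : ip (fun m : M => χ m) θ ≠ 0) : ip (fun m : M => χ m) θ = 1 := by
  classical
  have := Fintype.ofFinite G
  have := Fintype.ofFinite M
  obtain ⟨e, he⟩ := ip_nat (isCharacter_restrict M (isIrr_isCharacter hχ)) (isIrr_isCharacter hθ)
  have he0 : e ≠ 0 := by
    rintro rfl
    rw [he] at h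
    simp at h
  rw [ip_eq] at he
  have h1 := classInner_restrict_self_eq M hχ hθ he he0
  have h2 : e ^ 2 * (Finset.univ.image (fun x : G => θ ∘ (MulAut.conjNormal x : MulAut M))).card
      ∣ p := by
    rcases CharactersDeep.PrimeIndex.norm_restrict_prime_index M hp hM hχ with h3 | h3
    · rw [h1] at h3
      have h4 : e ^ 2 * (Finset.univ.image
        (fun x : G => θ ∘ (MulAut.conjNormal x : MulAut M))).card = 1 := by exact_mod_cast h3
      rw [h4]
      exact one_dvd _
    · rw [h1] at h3
      have h4 : e ^ 2 * (Finset.univ.image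
        (fun x : G => θ ∘ (MulAut.conjNormal x : MulAut M))).card = p := by exact_mod_cast h3
      rw [h4]
  have h3 : e ^ 2 ∣ p := (Dvd.intro _ rfl).trans h2
  have h4 : e = 1 := by
    have h5 : e ∣ p := (Dvd.intro_left (e ^ 1) (by ring)).trans h3
    rcases (Nat.dvd_prime hp).1 h5 with h6 | h6
    · exact h6
    · rw [h6] at h3
      have h7 := Nat.le_of_dvd hp.pos h3
      have := hp.one_lt
      nlinarith
  rw [ip_eq, he, h4]
  simp

/-- Restriction to a normal subgroup of prime index: the sum of the conjugates. -/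
theorem restrict_eq_sum (M : Subgroup G) [M.Normal] {p : ℕ} (hp : p.Prime) (hM : M.index = p)
    {χ : G → ℂ} (hχ : IsIrrCharacter G χ) {θ : M → ℂ} (hθ : IsIrrCharacter M θ)
    (h : ip (fun m : M => χ m) θ ≠ 0) [Fintype G] [DecidableEq (M → ℂ)] :
    (fun m : M => χ m) =
      ∑ ψ ∈ Finset.univ.image (fun x : G => θ ∘ (MulAut.conjNormal x : MulAut M)), ψ := by
  classical
  have := Fintype.ofFinite M
  have h1 := mult_one M hp hM hχ hθ h
  rw [ip_eq] at h h1
  have h2 := restrict_eq_smul_sum M hχ hθ h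
  rw [h1, one_smul] at h2
  exact h2

/-- For an invariant character the restriction is irreducible. -/
theorem restrict_eq_of_inv (M : Subgroup G) [M.Normal] {p : ℕ} (hp : p.Prime) (hM : M.index = p)
    {χ : G → ℂ} (hχ : IsIrrCharacter G χ) {θ : M → ℂ} (hθ : IsIrrCharacter M θ)
    (h : ip (fun m : M => χ m) θ ≠ 0)
    (hinv : ∀ g : G, θ ∘ (MulAut.conjNormal g : MulAut M) = θ) :
    (fun m : M => χ m) = θ := by
  classical
  have := Fintype.ofFinite G
  rw [restrict_eq_sum M hp hM hχ hθ h]
  have h1 : Finset.univ.image (fun x : G => θ ∘ (MulAut.conjNormal x : MulAut M)) = {θ} := by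
    ext ψ
    rw [Finset.mem_image, Finset.mem_singleton]
    constructor
    · rintro ⟨x, -, rfl⟩
      exact hinv x
    · rintro rfl
      exact ⟨1, Finset.mem_univ _, hinv 1⟩
  rw [h1, Finset.sum_singleton]

theorem real_root {z : ℂ} {p : ℕ} (hp : Odd p) (hz : conj z = z) (hzp : z ^ p = 1) : z = 1 := by
  obtain ⟨r, rfl⟩ := Complex.conj_eq_iff_real.1 hz
  have h1 : r ^ p = 1 := by exact_mod_cast hzp
  have h2 : r = 1 := by
    have h3 : r ^ p = 1 ^ p := by rw [h1, one_pow]
    exact hp.strictMono_pow.injective h3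
  rw [h2]
  simp

/-- Over a real character of a normal subgroup of odd prime index there is at most one real
irreducible character. -/
theorem real_unique (M : Subgroup G) [M.Normal] {p : ℕ} (hp : p.Prime) (hp2 : Odd p)
    (hM : M.index = p) {χ₁ χ₂ : G → ℂ} (h₁ : IsIrrCharacter G χ₁) (h₂ : IsIrrCharacter G χ₂)
    (r₁ : ∀ g, conj (χ₁ g) = χ₁ g) (r₂ : ∀ g, conj (χ₂ g) = χ₂ g) {θ : M → ℂ}
    (hθ : IsIrrCharacter M θ) (c₁ : ip (fun m : M => χ₁ m) θ ≠ 0)
    (c₂ : ip (fun m : M => χ₂ m) θ ≠ 0) : χ₁ = χ₂ := by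
  classical
  have := Fintype.ofFinite G
  have := Fintype.ofFinite M
  have heq : (fun m : M => χ₁ m) = (fun m : M => χ₂ m) := by
    rw [restrict_eq_sum M hp hM h₁ hθ c₁, restrict_eq_sum M hp hM h₂ hθ c₂]
  rcases CharactersDeep.PrimeIndex.norm_restrict_prime_index M hp hM h₁ with h3 | h3
  · have h4 : IsIrrCharacter M (fun m : M => χ₁ m) :=
      isIrr_of_classInner_self (isCharacter_restrict M (isIrr_isCharacter h₁)) h3
    obtain ⟨β, hβ, hβ'⟩ := exists_twist (isIrr_isCharacter h₁) (isIrr_isCharacter h₂) M h4 rfl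
      heq.symm
    funext g
    rw [hβ']
    by_cases h5 : χ₁ g = 0
    · rw [h5, zero_mul]
    · have h6 : conj (β g : ℂ) = β g := by
        have h7 := r₂ g
        rw [hβ', map_mul, r₁] at h7
        exact mul_left_cancel₀ h5 h7
      have h8 : (β g : ℂ) ^ p = 1 := by
        have h9 : g ^ p ∈ M := by
          rw [← hM]
          exact Subgroup.pow_index_mem M g
        have h10 := hβ _ h9
        rw [map_pow] at h10
        have h11 := congrArg Units.val h10
        rwa [Units.val_pow_eq_pow_val, Units.val_one] at h11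
      rw [real_root hp2 h6 h8, mul_one]
  · -- the characters vanish off `M`
    have hv : ∀ χ : G → ℂ, IsIrrCharacter G χ →
        classInner (fun m : M => χ m) (fun m : M => χ m) = p → ∀ g, g ∉ M → χ g = 0 := by
      intro χ hχ hn g hg
      have e1 := classInner_irr_self hχ
      rw [classInner_self_eq_ofReal] at e1 hn
      have e1' : (Nat.card G : ℝ)⁻¹ * ∑ g : G, Complex.normSq (χ g) = 1 := by exact_mod_cast e1
      have hn' : (Nat.card M : ℝ)⁻¹ * ∑ m : M, Complex.normSq (χ m) = p := by exact_mod_cast hn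
      have hG0 : (Nat.card G : ℝ) ≠ 0 := by exact_mod_cast Nat.card_pos.ne'
      have hM0 : (Nat.card M : ℝ) ≠ 0 := by exact_mod_cast Nat.card_pos.ne'
      have hcard : (p : ℝ) * Nat.card M = Nat.card G := by
        rw [← hM]
        exact_mod_cast M.index_mul_card
      have e2 : ∑ g : G, Complex.normSq (χ g) = Nat.card G := by
        field_simp at e1'
        exact e1'
      have e3 : ∑ m : M, Complex.normSq (χ m) = Nat.card G := by
        rw [← hcard, mul_comm]
        field_simp at hn'
        linarith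
      have e4 : ∑ g : G, Complex.normSq (χ g) =
          ∑ g ∈ Finset.univ.filter (fun g => g ∈ M), Complex.normSq (χ g) +
          ∑ g ∈ Finset.univ.filter (fun g => ¬ g ∈ M), Complex.normSq (χ g) :=
        (Finset.sum_filter_add_sum_filter_not Finset.univ (fun g => g ∈ M) _).symm
      have e5 : ∑ g ∈ Finset.univ.filter (fun g => g ∈ M), Complex.normSq (χ g) =
          ∑ m : M, Complex.normSq (χ m) :=
        Finset.sum_subtype _ (by simp) _
      have e6 : ∑ g ∈ Finset.univ.filter (fun g => ¬ g ∈ M), Complex.normSq (χ g) = 0 := by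
        rw [e2, e5, e3] at e4
        linarith
      have e7 := (Finset.sum_eq_zero_iff_of_nonneg (fun g _ => Complex.normSq_nonneg (χ g))).1 e6 g
        (by simp [hg])
      exact Complex.normSq_eq_zero.1 e7
    funext g
    by_cases hg : g ∈ M
    · exact congrFun heq (⟨g, hg⟩ : M)
    · rw [hv χ₁ h₁ h3 g hg, hv χ₂ h₂ (heq ▸ h3) g hg]

end basic

end Cfsg.Agent.H626
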