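import Mathlib
import Cfsg.Agent.H626.RealOdd
import Cfsg.Agent.Characters.Linear

/-!
# Uniqueness of the real odd-degree character over a linear character of a Sylow 2-subgroup
-/

set_option autoImplicit false
open scoped ComplexConjugate
set_option linter.unusedSectionVars false
open Cfsg Cfsg.Agent.Characters.Core Cfsg.Agent.Characters.Clifford
  Cfsg.Agent.CharactersDeep.CliffordSum

namespace Cfsg.Agent.H626

universe u v

section setup

variable {G : Type u} [Group G] [Finite G] {P : Type v} [Group P] [Finite P] (i : P →* G)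
  (M : Subgroup G) [M.Normal]

/-- The restriction `i⁻¹(M) → M`. -/
abbrev resHom : ↥(M.comap i) →* ↥M := i.subgroupComap M

omit [Finite G] [Finite P] [M.Normal] in
theorem resHom_injective (hi : Function.Injective i) : Function.Injective (resHom i M) := by
  intro a b hab
  apply Subtype.ext
  apply hi
  exact congrArg Subtype.val hab

omit [Finite G] [Finite P] [M.Normal] in
theorem range_resHom : (resHom i M).range = i.range.subgroupOf M := by
  ext m
  rw [Subgroup.mem_subgroupOf]
  constructor
  · rintro ⟨x, rfl⟩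
    exact ⟨(x : P), rfl⟩
  · rintro ⟨x, hx⟩
    have hxM : x ∈ M.comap i := by
      rw [Subgroup.mem_comap, hx]
      exact m.2
    exact ⟨⟨x, hxM⟩, Subtype.ext hx⟩

omit [Finite P] in
theorem relIndex_dvd_index (H : Subgroup G) : H.relIndex M ∣ H.index := by
  have h1 : (H ⊓ M).relIndex M * M.index = (H ⊓ M).index := Subgroup.relIndex_mul_index inf_le_right
  have h2 : (H ⊓ M).relIndex H * H.index = (H ⊓ M).index := Subgroup.relIndex_mul_index inf_le_left
  have h3 : M.relIndex (M ⊔ H) * (M ⊔ H).index = M.index := Subgroup.relIndex_mul_index le_sup_left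
  rw [Subgroup.inf_relIndex_right] at h1
  rw [Subgroup.inf_relIndex_left, ← Subgroup.relIndex_sup_left] at h2
  have h4 : M.relIndex (M ⊔ H) ≠ 0 := by
    intro h5
    rw [h5, zero_mul] at h3
    exact M.index_ne_zero_of_finite h3.symm
  refine ⟨(M ⊔ H).index, ?_⟩
  apply Nat.eq_of_mul_eq_mul_left (Nat.pos_of_ne_zero h4)
  rw [h2, ← h1, ← h3]
  ring

theorem odd_index_resHom (hodd : Odd i.range.index) : Odd (resHom i M).range.index := by
  rw [range_resHom]
  change Odd (i.range.relIndex M)
  exact Odd.of_dvd_nat hodd (relIndex_dvd_index M i.range)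

/-- The corestriction when the image is contained in `M`. -/
def coHom (h : i.range ≤ M) : P →* M := i.codRestrict M (fun x => h ⟨x, rfl⟩)

omit [Finite G] [Finite P] [M.Normal] in
theorem coHom_apply (h : i.range ≤ M) (x : P) : ((coHom i M h x : M) : G) = i x := rfl

omit [Finite G] [Finite P] [M.Normal] in
theorem coHom_injective (h : i.range ≤ M) (hi : Function.Injective i) :
    Function.Injective (coHom i M h) := by
  intro a b hab
  apply hi
  exact congrArg Subtype.val hab

omit [Finite P] [M.Normal] in
theorem odd_index_coHom (h : i.range ≤ M) (hodd : Odd i.range.index) :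
    Odd (coHom i M h).range.index := by
  have h1 : (coHom i M h).range = i.range.subgroupOf M := by
    ext m
    rw [Subgroup.mem_subgroupOf]
    constructor
    · rintro ⟨x, rfl⟩
      exact ⟨x, rfl⟩
    · rintro ⟨x, hx⟩
      exact ⟨x, Subtype.ext hx⟩
  rw [h1]
  exact Odd.of_dvd_nat hodd (Subgroup.relIndex_dvd_index_of_le h)

/-- If the image is not contained in `M` (of prime index) then `G = M i(P)` and the index
is two. -/
theorem sup_eq_top {p : ℕ} (hp : p.Prime) (hM : M.index = p) (h : ¬ i.range ≤ M) :
    M ⊔ i.range = ⊤ := by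
  have h1 : M.relIndex (M ⊔ i.range) * (M ⊔ i.range).index = p := by
    rw [← hM]
    exact Subgroup.relIndex_mul_index le_sup_left
  rcases (Nat.dvd_prime hp).1 ⟨_, h1.symm⟩ with h2 | h2
  · exfalso
    rw [Subgroup.relIndex_eq_one] at h2
    exact h (le_sup_right.trans h2)
  · rw [h2] at h1
    exact Subgroup.index_eq_one.1 (Nat.eq_of_mul_eq_mul_left hp.pos (by rw [h1, mul_one]))

theorem index_eq_two {p : ℕ} (hp : p.Prime) (hM : M.index = p) (hP : IsPGroup 2 P)
    (h : ¬ i.range ≤ M) : p = 2 := by
  have h1 := sup_eq_top i M hp hM h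
  have h2 : M.relIndex i.range = p := by
    rw [← Subgroup.relIndex_sup_left, h1, Subgroup.relIndex_top_right, hM]
  have h3 : p ∣ Nat.card i.range := h2 ▸ Subgroup.relIndex_dvd_card M i.range
  have h4 : IsPGroup 2 i.range := hP.of_surjective i.rangeRestrict i.rangeRestrict_surjective
  obtain ⟨k, hk⟩ := h4.exists_card_eq
  rw [hk] at h3
  exact (Nat.prime_dvd_prime_iff_eq hp Nat.prime_two).1 (hp.dvd_of_dvd_pow h3)

/-- Conjugating by `i x` corresponds to conjugating by `x`. -/
theorem ip_resHom_conj (θ : M → ℂ) {l : P → ℂ} (hl : IsClassFunction P l) (x : P) :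
    ip ((θ ∘ (MulAut.conjNormal (i x) : MulAut M)) ∘ resHom i M)
      (l ∘ (M.comap i).subtype) = ip (θ ∘ resHom i M) (l ∘ (M.comap i).subtype) := by
  rw [← ip_comp_equiv (MulAut.conjNormal x : MulAut (M.comap i)) (θ ∘ resHom i M)]
  congr 1
  · funext q
    simp only [Function.comp]
    congr 1
    apply Subtype.ext
    rw [MulAut.conjNormal_apply]
    change i x * i (q : P) * (i x)⁻¹ = i ((MulAut.conjNormal x q : M.comap i) : P)
    rw [MulAut.conjNormal_apply, map_mul, map_mul, map_inv]
  · funext q
    change l (q : P) = l ((MulAut.conjNormal x q : M.comap i) : P)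
    rw [MulAut.conjNormal_apply, hl (q : P) x]

/-- If `θ` is the only real odd-degree character of `M` over `l`, it is invariant in `G`. -/
theorem invariant_of_unique {θ : M → ℂ} (hθ : RO θ) {l : P → ℂ} (hl : IsClassFunction P l)
    (h0 : ip (θ ∘ resHom i M) (l ∘ (M.comap i).subtype) ≠ 0)
    (huniq : ∀ θ' : M → ℂ, RO θ' → ip (θ' ∘ resHom i M) (l ∘ (M.comap i).subtype) ≠ 0 → θ' = θ)
    (htop : M ⊔ i.range = ⊤) (g : G) : θ ∘ (MulAut.conjNormal g : MulAut M) = θ := by
  have hg : g ∈ M ⊔ i.range := htop ▸ Subgroup.mem_top g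
  rw [Subgroup.mem_sup_of_normal_left] at hg
  obtain ⟨m, hm, y, ⟨x, rfl⟩, rfl⟩ := hg
  rw [comp_conjNormal_mul]
  have h1 : θ ∘ (MulAut.conjNormal m : MulAut M) = θ := by
    funext n
    have := isIrr_isClassFunction hθ.irr n ⟨m, hm⟩
    rw [← this]
    rfl
  rw [h1]
  apply huniq _ (hθ.conjNormal _)
  rw [ip_resHom_conj i M θ hl x]
  exact h0

end setup

/-- **Uniqueness.** `G` solvable, `P` a 2-group embedded with odd index, `l` a linear character of
`P`: there is at most one real-valued irreducible character of odd degree over `l`, and the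
multiplicity of `l` in it is one. -/
theorem unique_aux (n : ℕ) : ∀ (G : Type u) [Group G] [Finite G] [Group.IsSolvable G],
    Nat.card G = n → ∀ (P : Type v) [Group P] [Finite P], IsPGroup 2 P → ∀ i : P →* G,
    Function.Injective i → Odd i.range.index → ∀ l : P → ℂ, Lin l → ∀ χ₁ χ₂ : G → ℂ,
    RO χ₁ → RO χ₂ → ip (χ₁ ∘ i) l ≠ 0 → ip (χ₂ ∘ i) l ≠ 0 → χ₁ = χ₂ ∧ ip (χ₁ ∘ i) l = 1 := by
  classical
  induction n using Nat.strong_induction_on with
  | _ n ih =>
    intro G _ _ _ hG P _ _ hP i hi hodd l hl χ₁ χ₂ h₁ h₂ c₁ c₂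
    have := Fintype.ofFinite G
    rcases subsingleton_or_nontrivial G with hs | hnt
    · -- the trivial group
      have hPs : Subsingleton P := hi.subsingleton
      have e0 : ∀ χ : G → ℂ, RO χ → χ = 1 := by
        intro χ hχ
        apply eq_of_ip_ne_zero hχ.irr isIrr_one
        rw [ip_eq, classInner_def]
        obtain ⟨d, hd, hd'⟩ := isIrr_apply_one hχ.irr
        have e1 : ∑ g : G, χ g * conj ((1 : G → ℂ) g) = d := by
          rw [Fintype.sum_subsingleton _ (1 : G), hd']
          simp
        rw [e1]
        have e2 : (Nat.card G : ℂ) ≠ 0 := by exact_mod_cast Nat.card_pos.ne'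
        have e3 : (d : ℂ) ≠ 0 := by exact_mod_cast hd.ne'
        exact mul_ne_zero (inv_ne_zero e2) e3
      refine ⟨by rw [e0 _ h₁, e0 _ h₂], ?_⟩
      rw [e0 _ h₁]
      have e4 : (1 : G → ℂ) ∘ i = l := by
        funext x
        rw [Subsingleton.elim x 1, hl.one]
        rfl
      rw [e4, ip_self hl.irr]
    · obtain ⟨M, hMn, -, hMp⟩ := Solvable.SchurZassenhausConj.exists_normal_prime_index
        (⊥ : Subgroup G) bot_ne_top
        (Group.isSolvable_of_surjective (QuotientGroup.mk'_surjective (⊥ : Subgroup G)))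
      set p := M.index with hpdef
      have hMlt : Nat.card M < n := by
        rw [← hG, ← M.card_mul_index]
        have h1 : 0 < Nat.card M := Nat.card_pos
        have h2 := hMp.one_lt
        rw [← hpdef]
        nlinarith
      by_cases hle : i.range ≤ M
      · -- Case I
        have hpo : Odd p := Odd.of_dvd_nat hodd (Subgroup.index_dvd_of_le hle)
        have key : ∀ χ : G → ℂ, RO χ → ip (χ ∘ i) l ≠ 0 → ∃ θ : M → ℂ, RO θ ∧
            ip (fun m : M => χ m) θ ≠ 0 ∧ ip (θ ∘ coHom i M hle) l ≠ 0 := by
          intro χ hχ hc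
          obtain ⟨θ, hθ, hθ1, hθ2⟩ := exists_constituent
            (isCharacter_restrict M (isIrr_isCharacter hχ.irr)) (coHom i M hle) (ν := l) hc
          exact ⟨θ, hχ.constituent M hθ hθ1, hθ1, hθ2⟩
        have hM := ih (Nat.card M) hMlt M rfl P hP (coHom i M hle) (coHom_injective i M hle hi)
          (odd_index_coHom i M hle hodd) l hl
        obtain ⟨θ₁, ht₁, hr₁, hl₁⟩ := key χ₁ h₁ c₁
        obtain ⟨θ₂, ht₂, hr₂, hl₂⟩ := key χ₂ h₂ c₂
        obtain ⟨heq, hone⟩ := hM θ₁ θ₂ ht₁ ht₂ hl₁ hl₂
        subst heq
        refine ⟨real_unique M hMp hpo rfl h₁.irr h₂.irr h₁.real h₂.real ht₁.irr hr₁ hr₂, ?_⟩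
        have e1 : χ₁ ∘ i = (fun m : M => χ₁ m) ∘ coHom i M hle := rfl
        rw [e1, restrict_eq_sum M hMp rfl h₁.irr ht₁.irr hr₁]
        have e2 : (∑ ψ ∈ Finset.univ.image
            (fun x : G => θ₁ ∘ (MulAut.conjNormal x : MulAut M)), ψ) ∘ coHom i M hle =
            ∑ ψ ∈ Finset.univ.image
            (fun x : G => θ₁ ∘ (MulAut.conjNormal x : MulAut M)), ψ ∘ coHom i M hle := by
          funext x
          simp [Finset.sum_apply]
        rw [e2, ip_sum_left, Finset.sum_eq_single θ₁]
        · exact hone
        · intro ψ hψ hne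
          obtain ⟨x, -, rfl⟩ := Finset.mem_image.1 hψ
          by_contra h0
          exact hne (hM _ θ₁ (ht₁.conjNormal x) ht₁ h0 hl₁).1
        · intro hnot
          exfalso
          apply hnot
          refine Finset.mem_image.2 ⟨1, Finset.mem_univ _, ?_⟩
          rw [map_one]
          rfl
      · -- Case II
        have hp2 : p = 2 := index_eq_two i M hMp rfl hP hle
        have htop := sup_eq_top i M hMp rfl hle
        set Q := M.comap i with hQ
        have hlQ : Lin (l ∘ Q.subtype) := hl.comp _
        have key : ∀ χ : G → ℂ, RO χ → ip (χ ∘ i) l ≠ 0 → ∃ θ : M → ℂ, RO θ ∧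
            ip (fun m : M => χ m) θ ≠ 0 ∧ ip (θ ∘ resHom i M) (l ∘ Q.subtype) ≠ 0 := by
          intro χ hχ hc
          have hc' := ip_comp_ne_zero (isCharacter_comp i (isIrr_isCharacter hχ.irr)) hl hc Q.subtype
          obtain ⟨θ, hθ, hθ1, hθ2⟩ := exists_constituent
            (isCharacter_restrict M (isIrr_isCharacter hχ.irr)) (resHom i M)
            (ν := l ∘ Q.subtype) hc'
          exact ⟨θ, hχ.constituent M hθ hθ1, hθ1, hθ2⟩
        have hM := ih (Nat.card M) hMlt M rfl Q (hP.to_subgroup Q) (resHom i M)
          (resHom_injective i M hi) (odd_index_resHom i M hodd) (l ∘ Q.subtype) hlQ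
        obtain ⟨θ₁, ht₁, hr₁, hl₁⟩ := key χ₁ h₁ c₁
        obtain ⟨θ₂, ht₂, hr₂, hl₂⟩ := key χ₂ h₂ c₂
        obtain ⟨heq, hone⟩ := hM θ₁ θ₂ ht₁ ht₂ hl₁ hl₂
        subst heq
        have hinv : ∀ g : G, θ₁ ∘ (MulAut.conjNormal g : MulAut M) = θ₁ :=
          invariant_of_unique i M ht₁ (isIrr_isClassFunction hl.irr) hl₁
            (fun θ' ht' hl' => (hM θ' θ₁ ht' ht₁ hl' hl₁).1) htop
        have e₁ := restrict_eq_of_inv M hMp rfl h₁.irr ht₁.irr hr₁ hinv
        have e₂ := restrict_eq_of_inv M hMp rfl h₂.irr ht₁.irr hr₂ hinv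
        have hX : IsCharacter P (χ₁ ∘ i) := isCharacter_comp i (isIrr_isCharacter h₁.irr)
        have hres : (χ₁ ∘ i) ∘ Q.subtype = θ₁ ∘ resHom i M := by
          funext q
          exact congrFun e₁ (resHom i M q)
        -- `l` is not contained twice in `χ₁`, up to characters agreeing on `Q`
        have hno : ∀ μ : P → ℂ, Lin μ → μ ∘ Q.subtype = l ∘ Q.subtype →
            ip (χ₁ ∘ i - l) μ = 0 := by
          intro μ hμ hμl
          by_contra h0
          refine ip_comp_ne_one hX hl hμ c₁ h0 Q.subtype hμl ?_
          rw [hres, hone]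
        constructor
        · obtain ⟨β, hβ, hβ'⟩ := exists_twist (isIrr_isCharacter h₁.irr) (isIrr_isCharacter h₂.irr)
            M ht₁.irr e₁ e₂
          have hβr : ∀ g : G, conj (β g : ℂ) = β g := by
            intro g
            have h9 : g ^ 2 ∈ M := by
              rw [← hp2, hpdef]
              exact Subgroup.pow_index_mem M g
            have h10 := hβ _ h9
            rw [map_pow] at h10
            have h11 := congrArg Units.val h10
            rw [Units.val_pow_eq_pow_val, Units.val_one, sq, mul_self_eq_one_iff] at h11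
            rcases h11 with h | h
            · rw [h, map_one]
            · rw [h, map_neg, map_one]
          obtain ⟨f, hf⟩ := Characters.Linear.exists_hom_of_isIrrCharacter hl.irr hl.one
          let l' : P → ℂ := fun x => ((f * β.comp i : P →* ℂˣ) x : ℂ)
          have hl'x : ∀ x, l' x = l x * β (i x) := by
            intro x
            rw [hf]
            simp [l']
          have hl' : Lin l' := ⟨Characters.Linear.isIrrCharacter_hom _, by simp [l']⟩
          have hl'Q : l' ∘ Q.subtype = l ∘ Q.subtype := by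
            funext q
            change l' (q : P) = l (q : P)
            have hq : i (q : P) ∈ M := q.2
            rw [hl'x, hβ _ hq]
            simp
          have h0 := hno l' hl' hl'Q
          have hc' : ip (χ₁ ∘ i) l' = ip (χ₂ ∘ i) l := by
            have := Fintype.ofFinite P
            rw [ip_eq, ip_eq, classInner_def, classInner_def]
            congr 1
            refine Finset.sum_congr rfl fun x _ => ?_
            simp only [Function.comp]
            rw [hl'x, hβ', map_mul, hβr]
            ring
          rw [ip_sub_left, hc'] at h0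
          have hll' : l = l' := by
            by_contra hne
            rw [ip_ne hl.irr hl'.irr hne, sub_zero] at h0
            exact c₂ h0
          have hβ1 : ∀ g, β g = 1 := by
            intro g
            have hg : g ∈ M ⊔ i.range := htop ▸ Subgroup.mem_top g
            rw [Subgroup.mem_sup_of_normal_left] at hg
            obtain ⟨m, hm, y, ⟨x, rfl⟩, rfl⟩ := hg
            rw [map_mul, hβ m hm, one_mul]
            have h12 := congrFun hll' x
            rw [hl'x, hf] at h12
            have h13 : (f x : ℂ) ≠ 0 := (f x).ne_zero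
            have h14 : (β (i x) : ℂ) = 1 := by
              apply mul_left_cancel₀ h13
              rw [mul_one]
              exact h12.symm
            exact Units.ext h14
          funext g
          rw [hβ', hβ1]
          simp
        · have h0 := hno l hl rfl
          rw [ip_sub_left, ip_self hl.irr] at h0
          exact sub_eq_zero.1 h0

end Cfsg.Agent.H626
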