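import Mathlib
import Cfsg.Agent.H626.RealOddA

/-!
# Real odd-degree characters: reality and conjugacy of the linear constituents

`P` is a 2-group embedded with odd index in the finite solvable group `G`, `χ` a real-valued
irreducible character of odd degree of `G`.

* `real_of_under` : every linear constituent of `χ` restricted to `P` is real-valued.
* `conj_of_under` : two linear constituents are conjugate in the normalizer of `P`.
-/

set_option autoImplicit false
open scoped ComplexConjugate Pointwise
open Cfsg Cfsg.Agent.Characters.Core Cfsg.Agent.Characters.Clifford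
  Cfsg.Agent.CharactersDeep.CliffordSum

namespace Cfsg.Agent.H626

universe u v

/-- The uniqueness theorem, without the auxiliary bound. -/
theorem unique {G : Type u} [Group G] [Finite G] [Group.IsSolvable G] {P : Type v} [Group P]
    [Finite P] (hP : IsPGroup 2 P) (i : P →* G) (hi : Function.Injective i)
    (hodd : Odd i.range.index) {l : P → ℂ} (hl : Lin l) {χ₁ χ₂ : G → ℂ}
    (h₁ : RO χ₁) (h₂ : RO χ₂) (c₁ : ip (χ₁ ∘ i) l ≠ 0) (c₂ : ip (χ₂ ∘ i) l ≠ 0) : χ₁ = χ₂ :=
  (unique_aux _ G rfl P hP i hi hodd l hl χ₁ χ₂ h₁ h₂ c₁ c₂).1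

theorem ip_eq_one {G : Type u} [Group G] [Finite G] [Group.IsSolvable G] {P : Type v} [Group P]
    [Finite P] (hP : IsPGroup 2 P) (i : P →* G) (hi : Function.Injective i)
    (hodd : Odd i.range.index) {l : P → ℂ} (hl : Lin l) {χ : G → ℂ}
    (h : RO χ) (c : ip (χ ∘ i) l ≠ 0) : ip (χ ∘ i) l = 1 :=
  (unique_aux _ G rfl P hP i hi hodd l hl χ χ h h c c).2

/-- The case of a normal subgroup of prime index not containing `P`. -/
theorem caseTwo {G : Type u} [Group G] [Finite G] [Group.IsSolvable G] {P : Type v} [Group P]
    [Finite P] (hP : IsPGroup 2 P) (i : P →* G) (hi : Function.Injective i)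
    (hodd : Odd i.range.index) (M : Subgroup G) [M.Normal] (hMp : M.index.Prime)
    (hle : ¬ i.range ≤ M) {l : P → ℂ} (hl : Lin l) {χ : G → ℂ}
    (h : RO χ) (c : ip (χ ∘ i) l ≠ 0) :
    ∃ θ : M → ℂ, RO θ ∧ (fun m : M => χ m) = θ ∧
      ip (θ ∘ resHom i M) (l ∘ (M.comap i).subtype) ≠ 0 ∧
      ∀ μ : P → ℂ, Lin μ → μ ∘ (M.comap i).subtype = l ∘ (M.comap i).subtype →
        ip (χ ∘ i - l) μ = 0 := by
  classical
  have htop := sup_eq_top i M hMp rfl hle
  set Q := M.comap i with hQ
  have hlQ : Lin (l ∘ Q.subtype) := hl.comp _
  have hX : IsCharacter P (χ ∘ i) := isCharacter_comp i (isIrr_isCharacter h.irr)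
  have hc' := ip_comp_ne_zero hX hl c Q.subtype
  obtain ⟨θ, hθ, hθ1, hθ2⟩ := exists_constituent
    (isCharacter_restrict M (isIrr_isCharacter h.irr)) (resHom i M)
    (ν := l ∘ Q.subtype) hc'
  have hM : ∀ θ' : M → ℂ, RO θ' → ip (θ' ∘ resHom i M) (l ∘ Q.subtype) ≠ 0 → θ' = θ := by
    intro θ' ht' hl'
    exact unique (hP.to_subgroup Q) (resHom i M) (resHom_injective i M hi)
      (odd_index_resHom i M hodd) hlQ ht' (h.constituent M hθ hθ1) hl' hθ2
  have hθr := h.constituent M hθ hθ1
  have hinv : ∀ g : G, θ ∘ (MulAut.conjNormal g : MulAut M) = θ :=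
    invariant_of_unique i M hθr (isIrr_isClassFunction hl.irr) hθ2 hM htop
  have e₁ := restrict_eq_of_inv M hMp rfl h.irr hθ hθ1 hinv
  have hone := ip_eq_one (hP.to_subgroup Q) (resHom i M) (resHom_injective i M hi)
      (odd_index_resHom i M hodd) hlQ hθr hθ2
  refine ⟨θ, hθr, e₁, hθ2, ?_⟩
  intro μ hμ hμl
  by_contra h0
  refine ip_comp_ne_one hX hl hμ c h0 Q.subtype hμl ?_
  have hres : (χ ∘ i) ∘ Q.subtype = θ ∘ resHom i M := by
    funext q
    exact congrFun e₁ (resHom i M q)
  rw [hres, hone]

theorem Lin.conj {P : Type*} [Group P] [Finite P] {l : P → ℂ} (hl : Lin l) :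
    Lin (fun x => conj (l x)) :=
  ⟨isIrr_conj hl.irr, by simp [hl.one]⟩

/-- Every linear constituent of the restriction of a real odd-degree character is real. -/
theorem real_of_under_aux (n : ℕ) : ∀ (G : Type u) [Group G] [Finite G] [Group.IsSolvable G],
    Nat.card G = n → ∀ (P : Type v) [Group P] [Finite P], IsPGroup 2 P → ∀ i : P →* G,
    Function.Injective i → Odd i.range.index → ∀ l : P → ℂ, Lin l → ∀ χ : G → ℂ,
    RO χ → ip (χ ∘ i) l ≠ 0 → ∀ x, conj (l x) = l x := by
  classical
  induction n using Nat.strong_induction_on with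
  | _ n ih =>
    intro G _ _ _ hG P _ _ hP i hi hodd l hl χ h c
    rcases subsingleton_or_nontrivial G with hs | hnt
    · have hPs : Subsingleton P := hi.subsingleton
      intro x
      rw [Subsingleton.elim x 1, hl.one]
      simp
    · obtain ⟨M, hMn, -, hMp⟩ := Solvable.SchurZassenhausConj.exists_normal_prime_index
        (⊥ : Subgroup G) bot_ne_top
        (Group.isSolvable_of_surjective (QuotientGroup.mk'_surjective (⊥ : Subgroup G)))
      have hMlt : Nat.card M < n := by
        rw [← hG, ← M.card_mul_index]
        have h1 : 0 < Nat.card M := Nat.card_pos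
        have h2 := hMp.one_lt
        nlinarith
      by_cases hle : i.range ≤ M
      · obtain ⟨θ, hθ, hθ1, hθ2⟩ := exists_constituent
            (isCharacter_restrict M (isIrr_isCharacter h.irr)) (coHom i M hle) (ν := l) c
        exact ih (Nat.card M) hMlt M rfl P hP (coHom i M hle) (coHom_injective i M hle hi)
          (odd_index_coHom i M hle hodd) l hl θ (h.constituent M hθ hθ1) hθ2
      · obtain ⟨θ, hθ, -, hθ2, hno⟩ := caseTwo hP i hi hodd M hMp hle hl h c
        have hQ := ih (Nat.card M) hMlt M rfl (M.comap i) (hP.to_subgroup _) (resHom i M)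
          (resHom_injective i M hi) (odd_index_resHom i M hodd) _ (hl.comp _) θ hθ hθ2
        have h1 := hno (fun x => conj (l x)) hl.conj (by
          funext q
          exact hQ q)
        have h2 : ip (χ ∘ i) (fun x => conj (l x)) ≠ 0 := by
          have h3 : ip (χ ∘ i) (fun x => conj (l x)) = conj (ip (χ ∘ i) l) := by
            rw [← ip_conj_conj]
            congr 1
            funext x
            exact (h.real (i x)).symm
          rw [h3]
          simpa using c
        have h3 : l = fun x => conj (l x) := by
          by_contra hne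
          rw [ip_sub_left, ip_ne hl.irr hl.conj.irr hne, sub_zero] at h1
          exact h2 h1
        intro x
        exact (congrFun h3 x).symm

theorem real_of_under {G : Type u} [Group G] [Finite G] [Group.IsSolvable G] {P : Type v} [Group P]
    [Finite P] (hP : IsPGroup 2 P) (i : P →* G) (hi : Function.Injective i)
    (hodd : Odd i.range.index) {l : P → ℂ} (hl : Lin l) {χ : G → ℂ}
    (h : RO χ) (c : ip (χ ∘ i) l ≠ 0) (x : P) : conj (l x) = l x :=
  real_of_under_aux _ G rfl P hP i hi hodd l hl χ h c x

/-- Sylow's theorem for two embedded 2-subgroups of odd index. -/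
theorem sylow_conj {S : Type*} [Group S] [Finite S] (A B : Subgroup S) (hA : IsPGroup 2 A)
    (hB : IsPGroup 2 B) (hA' : Odd A.index) (hB' : Odd B.index) :
    ∃ s : S, ∀ x : S, x ∈ B ↔ s * x * s⁻¹ ∈ A := by
  have h2 : ∀ C : Subgroup S, Odd C.index → ¬ 2 ∣ C.index := fun C hC h =>
    (Nat.not_even_iff_odd.2 hC) (even_iff_two_dvd.2 h)
  have : Fact (Nat.Prime 2) := ⟨Nat.prime_two⟩
  obtain ⟨s, hs⟩ := MulAction.exists_smul_eq S (hB.toSylow (h2 B hB')) (hA.toSylow (h2 A hA'))
  refine ⟨s, fun x => ?_⟩
  have h3 : (MulAut.conj s • B : Subgroup S) = A := congrArg (fun T : Sylow 2 S => (T : Subgroup S)) hs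
  rw [← h3, Subgroup.mem_pointwise_smul_iff_inv_smul_mem]
  have h4 : (MulAut.conj s)⁻¹ • (s * x * s⁻¹) = x := by
    rw [← map_inv]
    simp [mul_assoc]
  rw [h4]

/-- Conjugation by a normalizing element as an endomorphism of `P`. -/
theorem exists_conjHom {G : Type u} [Group G] {P : Type v} [Group P] (i : P →* G)
    (hi : Function.Injective i) (n : G) (hn : ∀ x : P, ∃ y : P, i y = n * i x * n⁻¹) :
    ∃ c : P →* P, ∀ x, i (c x) = n * i x * n⁻¹ := by
  choose c hc using hn
  refine ⟨MonoidHom.mk' c ?_, hc⟩
  intro a b
  apply hi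
  rw [map_mul, hc, hc, hc, map_mul]
  group

theorem conjHom_injective {G : Type u} [Group G] {P : Type v} [Group P] (i : P →* G)
    (hi : Function.Injective i) (n : G) (c : P →* P) (hc : ∀ x, i (c x) = n * i x * n⁻¹) :
    Function.Injective c := by
  intro a b hab
  apply hi
  have h1 : n * i a * n⁻¹ = n * i b * n⁻¹ := by rw [← hc, ← hc, hab]
  exact mul_left_cancel (mul_right_cancel h1)

/-- Inner products are preserved by an injective endomorphism. -/
theorem ip_comp_injective {P : Type*} [Group P] [Finite P] (c : P →* P)
    (hc : Function.Injective c) (φ ψ : P → ℂ) : ip (φ ∘ c) (ψ ∘ c) = ip φ ψ :=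
  ip_comp_equiv (MulEquiv.ofBijective c (Finite.injective_iff_bijective.1 hc)) φ ψ

/-- Conjugate linear characters lie under the same characters. -/
theorem ip_conj_rel {G : Type u} [Group G] {P : Type v} [Group P] [Finite P] (i : P →* G)
    (hi : Function.Injective i) (n : G) (c : P →* P) (hc : ∀ x, i (c x) = n * i x * n⁻¹)
    {χ : G → ℂ} (hχ : IsClassFunction G χ) (l : P → ℂ) : ip (χ ∘ i) (l ∘ c) = ip (χ ∘ i) l := by
  rw [← ip_comp_injective c (conjHom_injective i hi n c hc) (χ ∘ i) l]
  congr 1
  funext x
  simp only [Function.comp]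
  rw [hc, hχ]

/-- Two linear constituents of the restriction of a real odd-degree character are conjugate
by an element normalizing `P`. -/
theorem conj_of_under_aux (n : ℕ) : ∀ (G : Type u) [Group G] [Finite G] [Group.IsSolvable G],
    Nat.card G = n → ∀ (P : Type v) [Group P] [Finite P], IsPGroup 2 P → ∀ i : P →* G,
    Function.Injective i → Odd i.range.index → ∀ l μ : P → ℂ, Lin l → Lin μ → ∀ χ : G → ℂ,
    RO χ → ip (χ ∘ i) l ≠ 0 → ip (χ ∘ i) μ ≠ 0 →
    ∃ (g : G) (c : P →* P), (∀ x, i (c x) = g * i x * g⁻¹) ∧ μ = l ∘ c := by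
  classical
  induction n using Nat.strong_induction_on with
  | _ n ih =>
    intro G _ _ _ hG P _ _ hP i hi hodd l μ hl hμ χ h cl cμ
    have := Fintype.ofFinite G
    rcases subsingleton_or_nontrivial G with hs | hnt
    · have hPs : Subsingleton P := hi.subsingleton
      refine ⟨1, MonoidHom.id P, fun x => by simp, ?_⟩
      funext x
      rw [Function.comp, Subsingleton.elim x 1, hμ.one, MonoidHom.id_apply, hl.one]
    · obtain ⟨M, hMn, -, hMp⟩ := Solvable.SchurZassenhausConj.exists_normal_prime_index
        (⊥ : Subgroup G) bot_ne_top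
        (Group.isSolvable_of_surjective (QuotientGroup.mk'_surjective (⊥ : Subgroup G)))
      have hMlt : Nat.card M < n := by
        rw [← hG, ← M.card_mul_index]
        have h1 : 0 < Nat.card M := Nat.card_pos
        have h2 := hMp.one_lt
        nlinarith
      by_cases hle : i.range ≤ M
      · -- Case I
        obtain ⟨θ, hθ, hθ1, hθ2⟩ := exists_constituent
            (isCharacter_restrict M (isIrr_isCharacter h.irr)) (coHom i M hle) (ν := l) cl
        obtain ⟨θ', hθ', hθ1', hθ2'⟩ := exists_constituent
            (isCharacter_restrict M (isIrr_isCharacter h.irr)) (coHom i M hle) (ν := μ) cμ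
        have := Fintype.ofFinite M
        rw [ip_eq] at hθ1 hθ1'
        obtain ⟨g, hg⟩ := exists_conj_of_constituents M h.irr hθ hθ' hθ1 hθ1'
        rw [← ip_eq] at hθ1 hθ1'
        set R := (coHom i M hle).range with hR
        have hR2 : IsPGroup 2 R :=
          hP.of_surjective (coHom i M hle).rangeRestrict (coHom i M hle).rangeRestrict_surjective
        have hRo : Odd R.index := odd_index_coHom i M hle hodd
        -- the conjugate of `R`
        set B : Subgroup M := R.map ((MulAut.conjNormal g : MulAut M) : M →* M) with hB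
        have hB2 : IsPGroup 2 B := hR2.map _
        have hBo : Odd B.index := by
          have : B.index = R.index :=
            Subgroup.index_map_of_bijective (MulAut.conjNormal g : MulAut M).bijective R
          rwa [this]
        obtain ⟨s, hs⟩ := sylow_conj R B hR2 hB2 hRo hBo
        have hn : ∀ x : P, ∃ y : P, i y = ((s : G) * g) * i x * ((s : G) * g)⁻¹ := by
          intro x
          have h1 : (MulAut.conjNormal g : MulAut M) (coHom i M hle x) ∈ B :=
            ⟨coHom i M hle x, ⟨x, rfl⟩, rfl⟩
          rw [hs] at h1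
          obtain ⟨y, hy⟩ := h1
          refine ⟨y, ?_⟩
          have h2 := congrArg Subtype.val hy
          rw [coHom_apply] at h2
          rw [h2]
          simp only [Subgroup.coe_mul, MulAut.conjNormal_apply, coHom_apply, InvMemClass.coe_inv]
          group
        obtain ⟨c, hc⟩ := exists_conjHom i hi _ hn
        have hcinj := conjHom_injective i hi _ c hc
        have h3 : ip (θ' ∘ coHom i M hle) (l ∘ c) ≠ 0 := by
          have h4 : θ' ∘ coHom i M hle = (θ ∘ coHom i M hle) ∘ c := by
            funext x
            rw [hg]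
            simp only [Function.comp]
            have h5 := isIrr_isClassFunction hθ
              ((MulAut.conjNormal g : MulAut M) (coHom i M hle x)) s
            rw [← h5]
            congr 1
            apply Subtype.ext
            rw [coHom_apply, hc]
            simp only [Subgroup.coe_mul, MulAut.conjNormal_apply, coHom_apply,
              InvMemClass.coe_inv]
            group
          rw [h4, ip_comp_injective c hcinj]
          exact hθ2
        obtain ⟨m, c₂, hc₂, hc₂'⟩ := ih (Nat.card M) hMlt M rfl P hP (coHom i M hle)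
          (coHom_injective i M hle hi) (odd_index_coHom i M hle hodd) (l ∘ c) μ (hl.comp c) hμ
          θ' (h.constituent M hθ' hθ1') h3 hθ2'
        refine ⟨(s : G) * g * m, c.comp c₂, ?_, ?_⟩
        · intro x
          have h6 := congrArg Subtype.val (hc₂ x)
          rw [coHom_apply] at h6
          rw [MonoidHom.comp_apply, hc, h6]
          simp only [Subgroup.coe_mul, coHom_apply, InvMemClass.coe_inv]
          group
        · rw [hc₂']
          rfl
      · -- Case II
        obtain ⟨θ, hθ, hres, hθ2, hno⟩ := caseTwo hP i hi hodd M hMp hle hl h cl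
        obtain ⟨θ', hθ', hres', hθ2', hno'⟩ := caseTwo hP i hi hodd M hMp hle hμ h cμ
        have hθθ' : θ' = θ := by rw [← hres, ← hres']
        subst hθθ'
        set Q := M.comap i with hQ
        obtain ⟨m, c, hc, hc'⟩ := ih (Nat.card M) hMlt M rfl Q (hP.to_subgroup _) (resHom i M)
          (resHom_injective i M hi) (odd_index_resHom i M hodd) (l ∘ Q.subtype) (μ ∘ Q.subtype)
          (hl.comp _) (hμ.comp _) θ' hθ' hθ2 hθ2'
        have hc1 : ∀ x : Q, i (c x : P) = m * i (x : P) * (m : G)⁻¹ := by
          intro x
          exact congrArg Subtype.val (hc x)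
        have hc2 : ∀ x : Q, μ x = l (c x) := fun x => congrFun hc' x
        have hcs : Function.Surjective c := by
          apply Finite.injective_iff_surjective.1
          intro a b hab
          have h1 : i (a : P) = i (b : P) := by
            have h2 := hc1 a
            rw [hab, hc1 b] at h2
            exact (mul_left_cancel (mul_right_cancel h2)).symm
          exact Subtype.ext (hi h1)
        have hlc := isIrr_isClassFunction hl.irr
        have hμc := isIrr_isClassFunction hμ.irr
        -- the stabilizer
        let S : Subgroup G :=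
          { carrier := {s | (∀ x : Q, ∃ y : Q, i (y : P) = s * i (x : P) * s⁻¹ ∧ μ y = μ x) ∧
              (∀ x : Q, ∃ y : Q, i (y : P) = s⁻¹ * i (x : P) * s ∧ μ y = μ x)}
            one_mem' := ⟨fun x => ⟨x, by simp, rfl⟩, fun x => ⟨x, by simp, rfl⟩⟩
            mul_mem' := by
              rintro s t ⟨hs, hs'⟩ ⟨ht, ht'⟩
              constructor
              · intro x
                obtain ⟨y, hy, hy'⟩ := ht x
                obtain ⟨z, hz, hz'⟩ := hs y
                refine ⟨z, ?_, hz'.trans hy'⟩
                rw [hz, hy]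
                group
              · intro x
                obtain ⟨y, hy, hy'⟩ := hs' x
                obtain ⟨z, hz, hz'⟩ := ht' y
                refine ⟨z, ?_, hz'.trans hy'⟩
                rw [hz, hy]
                group
            inv_mem' := by
              rintro s ⟨hs, hs'⟩
              refine ⟨?_, ?_⟩
              · simpa using hs'
              · simpa using hs }
        have hSi : ∀ z : P, i z ∈ S := by
          have h1 : ∀ z : P, ∀ x : Q, ∃ y : Q, i (y : P) = i z * i (x : P) * (i z)⁻¹ ∧
              μ y = μ x := by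
            intro z x
            refine ⟨(MulAut.conjNormal z : MulAut Q) x, ?_, ?_⟩
            · rw [MulAut.conjNormal_apply, map_mul, map_mul, map_inv]
            · rw [MulAut.conjNormal_apply, hμc]
          intro z
          refine ⟨h1 z, ?_⟩
          intro x
          have h2 := h1 z⁻¹ x
          rw [map_inv, inv_inv] at h2
          exact h2
        have hSm : ∀ z : P, (m : G)⁻¹ * i z * m ∈ S := by
          have h1 : ∀ z : P, ∀ x : Q, ∃ y : Q,
              i (y : P) = ((m : G)⁻¹ * i z * m) * i (x : P) * ((m : G)⁻¹ * i z * m)⁻¹ ∧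
              μ y = μ x := by
            intro z x
            obtain ⟨y, hy⟩ := hcs ((MulAut.conjNormal z : MulAut Q) (c x))
            have h2 : i (c y : P) = i z * (m * i (x : P) * (m : G)⁻¹) * (i z)⁻¹ := by
              rw [hy, MulAut.conjNormal_apply, map_mul, map_mul, map_inv, hc1]
            refine ⟨y, ?_, ?_⟩
            · rw [hc1] at h2
              have h3 : i (y : P) = (m : G)⁻¹ * (m * i (y : P) * (m : G)⁻¹) * m := by group
              rw [h3, h2]
              group
            · rw [hc2, hc2, hy, MulAut.conjNormal_apply, hlc]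
          intro z
          refine ⟨h1 z, ?_⟩
          intro x
          obtain ⟨y, hy, hy'⟩ := h1 z⁻¹ x
          refine ⟨y, ?_, hy'⟩
          rw [hy, map_inv]
          group
        -- Sylow's theorem in `S`
        let j₁ : P →* S := i.codRestrict S hSi
        let j₂ : P →* S := ((MulAut.conj (m : G)⁻¹).toMonoidHom.comp i).codRestrict S (by
          intro z
          have := hSm z
          simpa using this)
        have hj₁ : ∀ z, ((j₁ z : S) : G) = i z := fun z => rfl
        have hj₂ : ∀ z, ((j₂ z : S) : G) = (m : G)⁻¹ * i z * m := fun z => by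
          change (MulAut.conj (m : G)⁻¹) (i z) = _
          simp
        have hidx : ∀ j : P →* S, Function.Injective j → Odd j.range.index := by
          intro j hj
          have h1 : Nat.card j.range * j.range.index = Nat.card S := j.range.card_mul_index
          have h2 : Nat.card j.range = Nat.card P :=
            (Nat.card_congr (MonoidHom.ofInjective hj).toEquiv).symm
          have h3 : Nat.card i.range = Nat.card P :=
            (Nat.card_congr (MonoidHom.ofInjective hi).toEquiv).symm
          have h4 : Nat.card i.range * i.range.index = Nat.card G := i.range.card_mul_index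
          have h5 : Nat.card S * S.index = Nat.card G := S.card_mul_index
          have h6 : j.range.index ∣ i.range.index := by
            refine ⟨S.index, ?_⟩
            apply Nat.eq_of_mul_eq_mul_left (Nat.card_pos (α := P))
            rw [← mul_assoc, ← h2, h1, h5, h2, ← h3, h4]
          exact Odd.of_dvd_nat hodd h6
        have hj₁i : Function.Injective j₁ := by
          intro a b hab
          exact hi (congrArg Subtype.val hab)
        have hj₂i : Function.Injective j₂ := by
          intro a b hab
          have h1 := congrArg Subtype.val hab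
          rw [hj₂, hj₂] at h1
          exact hi (mul_left_cancel (mul_right_cancel h1))
        obtain ⟨s, hs⟩ := sylow_conj j₂.range j₁.range
          (hP.of_surjective j₂.rangeRestrict j₂.rangeRestrict_surjective)
          (hP.of_surjective j₁.rangeRestrict j₁.rangeRestrict_surjective)
          (hidx j₂ hj₂i) (hidx j₁ hj₁i)
        -- `n = m s` normalizes `P`
        have hn : ∀ x : P, ∃ y : P, i y = ((m : G) * s) * i x * ((m : G) * s)⁻¹ := by
          intro x
          have h1 : j₁ x ∈ j₁.range := ⟨x, rfl⟩
          rw [hs] at h1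
          obtain ⟨y, hy⟩ := h1
          refine ⟨y, ?_⟩
          have h2 := congrArg Subtype.val hy
          rw [hj₂] at h2
          simp only [Subgroup.coe_mul, InvMemClass.coe_inv, hj₁] at h2
          have h3 : i y = (m : G) * ((m : G)⁻¹ * i y * m) * (m : G)⁻¹ := by group
          rw [h3, h2]
          group
        obtain ⟨d, hd⟩ := exists_conjHom i hi _ hn
        have hldQ : (l ∘ d) ∘ Q.subtype = μ ∘ Q.subtype := by
          funext x
          obtain ⟨y, hy, hy'⟩ := s.2.1 x
          have h1 : d (x : P) = (c y : P) := by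
            apply hi
            rw [hd, hc1, hy]
            group
          change l (d (x : P)) = μ (x : P)
          rw [h1, ← hc2, hy']
        have h0 := hno' (l ∘ d) (hl.comp d) hldQ
        have hcl' : ip (χ ∘ i) (l ∘ d) ≠ 0 := by
          rw [ip_conj_rel i hi _ d hd (isIrr_isClassFunction h.irr)]
          exact cl
        refine ⟨(m : G) * s, d, hd, ?_⟩
        by_contra hne
        rw [ip_sub_left, ip_ne hμ.irr (hl.comp d).irr hne, sub_zero] at h0
        exact hcl' h0

theorem conj_of_under {G : Type u} [Group G] [Finite G] [Group.IsSolvable G] {P : Type v} [Group P]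
    [Finite P] (hP : IsPGroup 2 P) (i : P →* G) (hi : Function.Injective i)
    (hodd : Odd i.range.index) {l μ : P → ℂ} (hl : Lin l) (hμ : Lin μ) {χ : G → ℂ}
    (h : RO χ) (cl : ip (χ ∘ i) l ≠ 0) (cμ : ip (χ ∘ i) μ ≠ 0) :
    ∃ (g : G) (c : P →* P), (∀ x, i (c x) = g * i x * g⁻¹) ∧ μ = l ∘ c :=
  conj_of_under_aux _ G rfl P hP i hi hodd l μ hl hμ χ h cl cμ

end Cfsg.Agent.H626
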