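import Mathlib
import Cfsg.Agent.H626.RealOddB
import Cfsg.Agent.Blocks.ReynoldsAux
import Cfsg.Agent.CharactersDeep.NormalInd
import Cfsg.Agent.CharDeep.CliffordCorr

/-!
# Counting real odd-degree characters of a solvable group

`card_RO_eq` : if `i : P → G` and `j : P → H` embed the 2-group `P` with odd index in the solvable
groups `G`, `H` and the conjugation relations on `P` agree, then `G` and `H` have equally many
real-valued irreducible characters of odd degree.
-/

set_option autoImplicit false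
open scoped ComplexConjugate
open Cfsg Cfsg.Agent.Characters.Core Cfsg.Agent.Characters.Clifford
  Cfsg.Agent.CharactersDeep.CliffordSum

namespace Cfsg.Agent.H626

universe u v w

/-- A character of odd degree has an irreducible constituent of odd degree. -/
theorem exists_odd_constituent {G : Type*} [Group G] [Finite G] {X : G → ℂ} (hX : IsCharacter G X)
    (hodd : ∃ n : ℕ, Odd n ∧ X 1 = n) :
    ∃ ψ : G → ℂ, IsIrrCharacter G ψ ∧ (∃ n : ℕ, Odd n ∧ ψ 1 = n) ∧ ip X ψ ≠ 0 := by
  classical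
  have := Fintype.ofFinite G
  have := finite_irr (G := G)
  have := Fintype.ofFinite (IrrCharacter G)
  obtain ⟨m, hm⟩ := isCharacter_iff.1 hX
  have hm' : ∀ ψ : IrrCharacter G, ip X (ψ : G → ℂ) = m ψ := by
    intro ψ
    rw [ip_eq, hm]
    exact classInner_sum_nsmul_irr m ψ
  choose d hd0 hd using fun ψ : IrrCharacter G => isIrr_apply_one ψ.2
  obtain ⟨N, hN, hN'⟩ := hodd
  have h2 : (N : ℂ) = ∑ ψ : IrrCharacter G, (m ψ : ℂ) * d ψ := by
    rw [← hN', hm, Finset.sum_apply]
    refine Finset.sum_congr rfl fun ψ _ => ?_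
    rw [Pi.smul_apply, hd, nsmul_eq_mul]
  have h3 : N = ∑ ψ : IrrCharacter G, m ψ * d ψ := by exact_mod_cast h2
  by_contra hcon
  push Not at hcon
  apply Nat.not_even_iff_odd.2 hN
  rw [h3]
  refine Finset.even_sum _ fun ψ _ => ?_
  by_cases h9 : Odd (d ψ)
  · have h10 := hcon (ψ : G → ℂ) ψ.2 ⟨d ψ, h9, hd ψ⟩
    rw [hm'] at h10
    have h11 : m ψ = 0 := by exact_mod_cast h10
    rw [h11, zero_mul]
    exact Even.zero
  · rw [Nat.not_odd_iff_even] at h9
    exact h9.mul_left _

/-- Odd-degree irreducible characters of a 2-group are linear. -/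
theorem lin_of_odd {P : Type*} [Group P] [Finite P] (hP : IsPGroup 2 P) {ψ : P → ℂ}
    (hψ : IsIrrCharacter P ψ) (hodd : ∃ n : ℕ, Odd n ∧ ψ 1 = n) : Lin ψ := by
  obtain ⟨n, hn, hn'⟩ := hodd
  obtain ⟨m, hm, hm'⟩ := Blocks.ReynoldsAux.exists_degree_dvd hψ
  obtain ⟨k, hk⟩ := hP.exists_card_eq
  have h1 : n = m := by
    rw [hn'] at hm
    exact_mod_cast hm
  subst h1
  rw [hk] at hm'
  obtain ⟨j, -, hj⟩ := (Nat.dvd_prime_pow Nat.prime_two).1 hm'
  refine ⟨hψ, ?_⟩
  rw [hn']
  rcases Nat.eq_zero_or_pos j with h0 | h0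
  · rw [hj, h0]
    simp
  · exfalso
    rw [hj] at hn
    exact (Nat.not_even_iff_odd.2 hn) ((Nat.even_pow.2 ⟨even_two, h0.ne'⟩))

section induced

variable {G : Type u} [Group G] [Finite G] {P : Type v} [Group P] [Finite P] (i : P →* G)

/-- The character induced from `P` along an embedding. -/
theorem exists_induced (hi : Function.Injective i) (hodd : Odd i.range.index) {l : P → ℂ} (hl : Lin l) :
    ∃ X : G → ℂ, IsCharacter G X ∧ (∃ n : ℕ, Odd n ∧ X 1 = n) ∧
      ((∀ x, conj (l x) = l x) → ∀ g, conj (X g) = X g) ∧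
      ∀ χ : G → ℂ, IsCharacter G χ → ip X χ = ip (χ ∘ i) l := by
  classical
  have := Fintype.ofFinite G
  have := Fintype.ofFinite i.range
  let e : P ≃* i.range := MonoidHom.ofInjective hi
  have hle : IsCharacter i.range (l ∘ e.symm) :=
    isCharacter_comp (e.symm : i.range →* P) (isIrr_isCharacter hl.irr)
  refine ⟨indFun i.range (l ∘ e.symm), CharDeep.CliffordCorr.isCharacter_indFun _ hle,
    ⟨i.range.index, hodd, ?_⟩, ?_, ?_⟩
  · rw [CharactersDeep.NormalInd.indFun_one]
    simp [hl.one]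
  · intro hr g
    rw [indFun_apply, map_mul, map_inv₀, Complex.conj_natCast, map_sum]
    congr 1
    refine Finset.sum_congr rfl fun x _ => ?_
    by_cases h : x⁻¹ * g * x ∈ i.range
    · rw [extendByZero_of_mem _ _ h]
      exact hr _
    · rw [extendByZero_of_notMem _ _ h, map_zero]
  · intro χ hχ
    rw [ip_eq, OddOrderCharacters.Clifford.classInner_indFun _ _ _ (isCharacter_isClassFunction hχ),
      ← ip_eq, ip_comm hle (isCharacter_restrict _ hχ), ← ip_comp_equiv e]
    congr 1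
    funext x
    simp

/-- Existence of a real odd-degree character over a real linear character. -/
theorem exists_over (hi : Function.Injective i) (hodd : Odd i.range.index) {l : P → ℂ} (hl : Lin l)
    (hr : ∀ x, conj (l x) = l x) : ∃ χ : G → ℂ, RO χ ∧ ip (χ ∘ i) l ≠ 0 := by
  obtain ⟨X, hX, hX1, hXr, hXi⟩ := exists_induced i hi hodd hl
  obtain ⟨χ, hχ, hχ'⟩ := exists_RO hX (hXr hr) hX1
  refine ⟨χ, hχ, ?_⟩
  rwa [hXi χ (isIrr_isCharacter hχ.irr)] at hχ'

/-- Existence of an odd-degree character over a linear character. -/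
theorem exists_over_odd (hi : Function.Injective i) (hodd : Odd i.range.index) {l : P → ℂ} (hl : Lin l) :
    ∃ χ : G → ℂ, IsIrrCharacter G χ ∧ (∃ n : ℕ, Odd n ∧ χ 1 = n) ∧ ip (χ ∘ i) l ≠ 0 := by
  obtain ⟨X, hX, hX1, hXr, hXi⟩ := exists_induced i hi hodd hl
  obtain ⟨χ, hχ, hχ1, hχ'⟩ := exists_odd_constituent hX hX1
  refine ⟨χ, hχ, hχ1, ?_⟩
  rwa [hXi χ (isIrr_isCharacter hχ)] at hχ'

omit [Finite G] in
/-- A real odd-degree character lies over a real linear character. -/
theorem exists_under (hP : IsPGroup 2 P) {χ : G → ℂ} (hχ : RO χ) :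
    ∃ l : P → ℂ, Lin l ∧ (∀ x, conj (l x) = l x) ∧ ip (χ ∘ i) l ≠ 0 := by
  obtain ⟨l, hl, hl'⟩ := exists_RO (isCharacter_comp i (isIrr_isCharacter hχ.irr))
    (fun x => hχ.real (i x)) (by
      obtain ⟨n, hn, hn'⟩ := hχ.odd
      exact ⟨n, hn, by simpa using hn'⟩)
  exact ⟨l, lin_of_odd hP hl.irr hl.odd, hl.real, hl'⟩

omit [Finite G] in
/-- An odd-degree character lies over a linear character. -/
theorem exists_under_odd (hP : IsPGroup 2 P) {χ : G → ℂ} (hχ : IsIrrCharacter G χ)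
    (hodd : ∃ n : ℕ, Odd n ∧ χ 1 = n) :
    ∃ l : P → ℂ, Lin l ∧ ip (χ ∘ i) l ≠ 0 := by
  obtain ⟨l, hl, hl1, hl'⟩ := exists_odd_constituent (isCharacter_comp i (isIrr_isCharacter hχ)) (by
      obtain ⟨n, hn, hn'⟩ := hodd
      exact ⟨n, hn, by simpa using hn'⟩)
  exact ⟨l, lin_of_odd hP hl hl1, hl'⟩

end induced

/-- The conjugation relation on functions on `P`. -/
def Rel {G : Type u} [Group G] {P : Type v} [Group P] (i : P →* G) (l μ : P → ℂ) : Prop :=
  ∃ (g : G) (c : P →* P), (∀ x, i (c x) = g * i x * g⁻¹) ∧ μ = l ∘ c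

/-- Real linear characters. -/
abbrev L2 (P : Type v) [Group P] : Type v := {l : P → ℂ // Lin l ∧ ∀ x, conj (l x) = l x}

theorem exists_map {G : Type u} [Group G] [Finite G] [Group.IsSolvable G] {P : Type v} [Group P]
    [Finite P] (hP : IsPGroup 2 P) (i : P →* G) (hi : Function.Injective i)
    (hodd : Odd i.range.index) :
    ∃ Φ : L2 P → {χ : G → ℂ // RO χ}, Function.Surjective Φ ∧
      ∀ l μ : L2 P, Φ l = Φ μ ↔ Rel i (l : P → ℂ) (μ : P → ℂ) := by
  choose Φ hΦ hΦ' using fun l : L2 P => exists_over i hi hodd l.2.1 l.2.2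
  refine ⟨fun l => ⟨Φ l, hΦ l⟩, ?_, ?_⟩
  · rintro ⟨χ, hχ⟩
    obtain ⟨l, hl, hlr, hl'⟩ := exists_under i hP hχ
    refine ⟨⟨l, hl, hlr⟩, Subtype.ext ?_⟩
    exact unique hP i hi hodd hl (hΦ _) hχ (hΦ' ⟨l, hl, hlr⟩) hl'
  · intro l μ
    constructor
    · intro h
      have h1 : Φ l = Φ μ := congrArg Subtype.val h
      exact conj_of_under hP i hi hodd l.2.1 μ.2.1 (hΦ l) (hΦ' l) (h1 ▸ hΦ' μ)
    · rintro ⟨g, c, hc, hcμ⟩
      apply Subtype.ext
      refine unique hP i hi hodd l.2.1 (hΦ l) (hΦ μ) (hΦ' l) ?_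
      have h1 := ip_conj_rel i hi g c hc (isIrr_isClassFunction (hΦ μ).irr) (l : P → ℂ)
      rw [← h1, ← hcμ]
      exact hΦ' μ

/-- Equality of the numbers of real odd-degree characters. -/
theorem card_RO_eq {G : Type u} [Group G] [Finite G] [Group.IsSolvable G]
    {H : Type w} [Group H] [Finite H] [Group.IsSolvable H] {P : Type v} [Group P]
    [Finite P] (hP : IsPGroup 2 P) (i : P →* G) (hi : Function.Injective i)
    (hodd : Odd i.range.index) (j : P →* H) (hj : Function.Injective j)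
    (hodd' : Odd j.range.index)
    (hrel : ∀ l μ : L2 P, Rel i (l : P → ℂ) (μ : P → ℂ) ↔ Rel j (l : P → ℂ) (μ : P → ℂ)) :
    Nat.card {χ : G → ℂ // RO χ} = Nat.card {χ : H → ℂ // RO χ} := by
  obtain ⟨Φ, hΦ, hΦr⟩ := exists_map hP i hi hodd
  obtain ⟨Ψ, hΨ, hΨr⟩ := exists_map hP j hj hodd'
  have e1 := Setoid.quotientKerEquivOfSurjective Φ hΦ
  have e2 := Setoid.quotientKerEquivOfSurjective Ψ hΨ
  have h : Setoid.ker Φ = Setoid.ker Ψ := by
    ext l μ
    rw [Setoid.ker_def, Setoid.ker_def, hΦr, hΨr, hrel]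
  rw [h] at e1
  exact Nat.card_congr (e1.symm.trans e2)

theorem charDegree_eq {G : Type*} [Group G] {χ : G → ℂ} {n : ℕ} (h : χ 1 = n) :
    charDegree χ = n := by
  rw [charDegree, h]
  simp

theorem RO_iff {G : Type*} [Group G] {χ : G → ℂ} (hχ : IsIrrCharacter G χ) :
    RO χ ↔ (∀ g, (χ g).im = 0) ∧ Odd (charDegree χ) := by
  have h1 : (∀ g, conj (χ g) = χ g) ↔ ∀ g, (χ g).im = 0 :=
    forall_congr' fun g => Complex.conj_eq_iff_im
  constructor
  · intro h
    obtain ⟨n, hn, hn'⟩ := h.odd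
    exact ⟨h1.1 h.real, by rwa [charDegree_eq hn']⟩
  · rintro ⟨h2, h3⟩
    obtain ⟨n, -, hn⟩ := isIrr_apply_one hχ
    rw [charDegree_eq hn] at h3
    exact ⟨hχ, h1.2 h2, n, h3, hn⟩

/-- The set in the statement. -/
theorem card_eq_card_RO {G : Type u} [Group G] :
    Nat.card {χ : Cfsg.IrrCharacter G // (∀ g : G, ((χ : G → ℂ) g).im = 0) ∧
      Odd (Cfsg.charDegree (χ : G → ℂ))} = Nat.card {χ : G → ℂ // RO χ} := by
  refine Nat.card_congr ⟨fun χ => ⟨χ.1, (RO_iff χ.1.2).2 χ.2⟩,
    fun χ => ⟨⟨χ.1, χ.2.irr⟩, (RO_iff χ.2.irr).1 χ.2⟩, fun χ => rfl, fun χ => rfl⟩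

/-- **First part.** `G` and the normalizer of a Sylow 2-subgroup have equally many real-valued
irreducible characters of odd degree. -/
theorem card_RO_normalizer {G : Type u} [Group G] [Finite G] [Group.IsSolvable G]
    (P : Subgroup G) (hP : IsPGroup 2 P) (hodd : Odd P.index) :
    Nat.card {χ : G → ℂ // RO χ} =
      Nat.card {χ : Subgroup.normalizer (P : Set G) → ℂ // RO χ} := by
  set N := Subgroup.normalizer (P : Set G) with hN
  have hPN : P ≤ N := Subgroup.le_normalizer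
  have hr1 : P.subtype.range = P := P.range_subtype
  have hr2 : (Subgroup.inclusion hPN).range = P.subgroupOf N := Subgroup.inclusion_range hPN
  refine card_RO_eq hP P.subtype P.subtype_injective (by rwa [hr1])
    (Subgroup.inclusion hPN) (Subgroup.inclusion_injective hPN) ?_ ?_
  · rw [hr2]
    exact Odd.of_dvd_nat hodd (Subgroup.relIndex_dvd_index_of_le hPN)
  · intro l μ
    constructor
    · rintro ⟨g, c, hc, hcμ⟩
      have hg : g ∈ N := by
        have h1 : P.map (MulAut.conj g).toMonoidHom ≤ P := by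
          rintro _ ⟨x, hx, rfl⟩
          have := hc ⟨x, hx⟩
          change g * x * g⁻¹ ∈ P
          rw [show g * x * g⁻¹ = (c ⟨x, hx⟩ : G) from this.symm]
          exact (c ⟨x, hx⟩).2
        have h2 : P.map (MulAut.conj g).toMonoidHom = P := by
          apply Subgroup.eq_of_le_of_card_ge h1
          rw [Subgroup.card_map_of_injective (MulAut.conj g).injective]
        rw [hN, Subgroup.mem_normalizer_iff]
        intro x
        conv_rhs => rw [← h2]
        constructor
        · intro hx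
          exact ⟨x, hx, rfl⟩
        · rintro ⟨y, hy, hy'⟩
          have : y = x := (MulAut.conj g).injective hy'
          rwa [← this]
      refine ⟨⟨g, hg⟩, c, ?_, hcμ⟩
      intro x
      apply Subtype.ext
      exact hc x
    · rintro ⟨g, c, hc, hcμ⟩
      exact ⟨g, c, fun x => congrArg Subtype.val (hc x), hcμ⟩

end Cfsg.Agent.H626
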