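import Mathlib
import Cfsg.Agent.H626.RealOddC
import Cfsg.Agent.Blocks.Deflate
import Cfsg.Agent.Characters.CCBasic
import Cfsg.Agent.Lib.CoprimeAbelian
import Cfsg.Agent.PLocal.CoprimeLift
import Cfsg.Agent.Lib.HallHigman
import Cfsg.Agent.Lib.SolvableNormalP
import Cfsg.Agent.H477.ElemNormal
import Cfsg.Agent.Lib.FrattiniBasic
import Cfsg.Agent.Lib.Cores
import Cfsg.Agent.TwoFusion.PResidual

/-!
# Solvable groups all of whose odd-degree irreducible characters are real
-/

set_option autoImplicit false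
set_option linter.unusedSectionVars false
open scoped ComplexConjugate
open Cfsg Cfsg.Agent.Characters.Core Cfsg.Agent.Characters.Clifford
  Cfsg.Agent.CharactersDeep.CliffordSum

namespace Cfsg.Agent.H626

universe u v

/-- All irreducible characters of odd degree are real-valued. -/
def AllReal (G : Type*) [Group G] : Prop :=
  ∀ χ : G → ℂ, IsIrrCharacter G χ → (∃ n : ℕ, Odd n ∧ χ 1 = n) → ∀ g, conj (χ g) = χ g

theorem AllReal.quotient {G : Type*} [Group G] (h : AllReal G) (K : Subgroup G) [K.Normal] :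
    AllReal (G ⧸ K) := by
  intro χ hχ hodd q
  obtain ⟨g, rfl⟩ := QuotientGroup.mk'_surjective K q
  refine h (χ ∘ QuotientGroup.mk' K) (isIrr_comp _ (QuotientGroup.mk'_surjective K) hχ) ?_ g
  obtain ⟨n, hn, hn'⟩ := hodd
  exact ⟨n, hn, by simpa using hn'⟩

section linear

variable {P : Type*} [Group P] [Finite P]

theorem Lin.exists_hom {l : P → ℂ} (h : Lin l) : ∃ f : P →* ℂˣ, l = fun x => (f x : ℂ) :=
  Characters.Linear.exists_hom_of_isIrrCharacter h.irr h.one

/-- All linear characters are real iff all squares are in the derived subgroup. -/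
theorem lin_real_iff : (∀ l : P → ℂ, Lin l → ∀ x, conj (l x) = l x) ↔
    ∀ x : P, x ^ 2 ∈ commutator P := by
  constructor
  · intro h x
    by_contra hx
    have h1 : (Abelianization.of x) ^ 2 ≠ 1 := by
      intro h2
      apply hx
      rw [← Abelianization.ker_of, MonoidHom.mem_ker, map_pow, h2]
    obtain ⟨φ, hφ⟩ := CommGroup.exists_apply_ne_one_of_hasEnoughRootsOfUnity (Abelianization P) ℂ h1
    apply hφ
    let f : P →* ℂˣ := φ.comp Abelianization.of
    have h3 := h (fun x => (f x : ℂ)) ⟨Characters.Linear.isIrrCharacter_hom f, by simp⟩ x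
    have h4 : (f x : ℂ) ^ 2 = 1 := by
      have h5 : (f x : ℂ) * conj (f x : ℂ) = 1 := by
        rw [Complex.mul_conj, Complex.normSq_eq_norm_sq, Characters.Linear.norm_hom_apply]
        simp
      have h3' : conj (f x : ℂ) = f x := h3
      rw [h3'] at h5
      rw [sq, h5]
    rw [map_pow]
    apply Units.ext
    rw [Units.val_pow_eq_pow_val, Units.val_one]
    exact h4
  · intro h l hl x
    obtain ⟨f, rfl⟩ := hl.exists_hom
    have h1 : f (x ^ 2) = 1 := by
      have h2 : commutator P ≤ f.ker := Abelianization.commutator_subset_ker f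
      exact h2 (h x)
    rw [map_pow] at h1
    have h11 := congrArg Units.val h1
    rw [Units.val_pow_eq_pow_val, Units.val_one, sq, mul_self_eq_one_iff] at h11
    change conj (f x : ℂ) = f x
    rcases h11 with h | h
    · rw [h, map_one]
    · rw [h, map_neg, map_one]

theorem commutator_eq_frattini_iff (hP : IsPGroup 2 P) :
    commutator P = frattini P ↔ ∀ x : P, x ^ 2 ∈ commutator P := by
  have : Fact (Nat.Prime 2) := ⟨Nat.prime_two⟩
  constructor
  · intro h x
    rw [h]
    exact Lib.FrattiniBasic.pow_mem_frattini hP x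
  · intro h
    exact le_antisymm (Lib.FrattiniBasic.commutator_le_frattini hP)
      (Lib.FrattiniBasic.frattini_le_of_elementary (p := 2) (commutator P) le_rfl h)

end linear

section sub

variable {G : Type u} [Group G] [Finite G]

theorem normal_le (P : Subgroup G) (hP : IsPGroup 2 P) (hodd : Odd P.index) (K : Subgroup G)
    [hK : K.Normal] (hK2 : IsPGroup 2 K) : K ≤ P := by
  have : Fact (Nat.Prime 2) := ⟨Nat.prime_two⟩
  have h2 : ¬ 2 ∣ P.index := fun h => (Nat.not_even_iff_odd.2 hodd) (even_iff_two_dvd.2 h)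
  exact (Lib.Cores.le_pCore hK hK2).trans (Lib.Cores.pCore_le_sylow (hP.toSylow h2))

theorem odd_index_map (P : Subgroup G) (hodd : Odd P.index) (K : Subgroup G) [K.Normal] :
    Odd (P.map (QuotientGroup.mk' K)).index :=
  Odd.of_dvd_nat hodd (P.index_map_dvd (QuotientGroup.mk'_surjective K))

theorem mem_sup_of_mk (P K : Subgroup G) [K.Normal] {g : G}
    (h : QuotientGroup.mk' K g ∈ P.map (QuotientGroup.mk' K)) : g ∈ P ⊔ K := by
  have h1 : g ∈ (P.map (QuotientGroup.mk' K)).comap (QuotientGroup.mk' K) := h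
  rwa [Subgroup.comap_map_eq, QuotientGroup.ker_mk'] at h1

theorem mk_mem_normalizer (P K : Subgroup G) [K.Normal] {g : G}
    (h : g ∈ Subgroup.normalizer (P : Set G)) : QuotientGroup.mk' K g ∈
      Subgroup.normalizer ((P.map (QuotientGroup.mk' K) : Subgroup (G ⧸ K)) : Set (G ⧸ K)) :=
  Subgroup.le_normalizer_map _ ⟨g, h, rfl⟩

theorem normalizer_map_le (P K : Subgroup G) [K.Normal] (hKP : K ≤ P)
    (hN : Subgroup.normalizer (P : Set G) ≤ P) :
    Subgroup.normalizer ((P.map (QuotientGroup.mk' K) : Subgroup (G ⧸ K)) : Set (G ⧸ K)) ≤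
      P.map (QuotientGroup.mk' K) := by
  intro q hq
  obtain ⟨g, rfl⟩ := QuotientGroup.mk'_surjective K q
  have hmem : ∀ x : G, QuotientGroup.mk' K x ∈ P.map (QuotientGroup.mk' K) ↔ x ∈ P := by
    intro x
    constructor
    · intro h
      have := mem_sup_of_mk P K h
      rwa [sup_eq_left.2 hKP] at this
    · exact fun h => ⟨x, h, rfl⟩
  rw [hmem]
  apply hN
  rw [Subgroup.mem_normalizer_iff] at hq ⊢
  intro x
  have := hq (QuotientGroup.mk' K x)
  rw [hmem, ← map_mul, ← map_inv, ← map_mul, hmem] at this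
  exact this

theorem inertia_aux (K : Subgroup G) [K.Normal] (α : K → ℂ) :
    ∃ T : Subgroup G, ∀ x, x ∈ T ↔ α ∘ (MulAut.conjNormal x : MulAut K) = α :=
  ⟨{ carrier := {x | α ∘ (MulAut.conjNormal x : MulAut K) = α}
     one_mem' := by
      change α ∘ (MulAut.conjNormal (1 : G) : MulAut K) = α
      rw [map_one]
      rfl
     mul_mem' := by
      intro x y hx hy
      change α ∘ (MulAut.conjNormal (x * y) : MulAut K) = α
      rw [comp_conjNormal_mul]
      rw [show α ∘ (MulAut.conjNormal x : MulAut K) = α from hx]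
      exact hy
     inv_mem' := by
      intro x hx
      change α ∘ (MulAut.conjNormal x⁻¹ : MulAut K) = α
      conv_lhs => rw [← show α ∘ (MulAut.conjNormal x : MulAut K) = α from hx]
      rw [← comp_conjNormal_mul, mul_inv_cancel, map_one]
      rfl }, fun _ => Iff.rfl⟩

/-- If `A, B` are `2`-subgroups of odd index of `G` contained in `T`, they are conjugate in `T`. -/
theorem sylow_conj_in (T A B : Subgroup G) (hA : IsPGroup 2 A) (hB : IsPGroup 2 B)
    (hA' : Odd A.index) (hB' : Odd B.index) (hAT : A ≤ T) (hBT : B ≤ T) :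
    ∃ s ∈ T, ∀ x, x ∈ B ↔ s * x * s⁻¹ ∈ A := by
  obtain ⟨s, hs⟩ := sylow_conj (A.subgroupOf T) (B.subgroupOf T)
    (hA.comap_of_injective T.subtype T.subtype_injective)
    (hB.comap_of_injective T.subtype T.subtype_injective)
    (Odd.of_dvd_nat hA' (Subgroup.relIndex_dvd_index_of_le hAT))
    (Odd.of_dvd_nat hB' (Subgroup.relIndex_dvd_index_of_le hBT))
  refine ⟨s, s.2, fun x => ?_⟩
  by_cases hx : x ∈ T
  · have := hs ⟨x, hx⟩
    rw [Subgroup.mem_subgroupOf, Subgroup.mem_subgroupOf] at this
    exact this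
  · constructor
    · intro h
      exact absurd (hBT h) hx
    · intro h
      exfalso
      apply hx
      have h1 := hAT h
      have h2 := T.mul_mem (T.mul_mem (T.inv_mem s.2) h1) s.2
      have h3 : (s : G)⁻¹ * (s * x * (s : G)⁻¹) * s = x := by group
      rwa [h3] at h2

/-- The key step: a normal abelian subgroup `K` of odd order, all odd-degree characters real,
and `N_G(P) ≤ P K`: then `C_K(P) = 1`. -/
theorem cent_eq_one (hall : AllReal G) (P : Subgroup G) (hP : IsPGroup 2 P) (hodd : Odd P.index)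
    (K : Subgroup G) [hKn : K.Normal] (hKc : IsMulCommutative K) (hKo : Odd (Nat.card K))
    (hN : Subgroup.normalizer (P : Set G) ≤ P ⊔ K) {k : G} (hk : k ∈ K)
    (hkP : ∀ x ∈ P, x * k = k * x) : k = 1 := by
  classical
  have := Fintype.ofFinite G
  have := Fintype.ofFinite K
  by_contra hk1
  set L : Subgroup G := P ⊔ K with hL
  have hPL : P ≤ L := le_sup_left
  have hKL : K ≤ L := le_sup_right
  have hLi : Odd L.index := Odd.of_dvd_nat hodd (Subgroup.index_dvd_of_le hPL)
  -- `k` is central in `L`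
  have hkL : ∀ x ∈ L, x * k = k * x := by
    intro x hx
    rw [hL, Subgroup.mem_sup_of_normal_right] at hx
    obtain ⟨y, hy, z, hz, rfl⟩ := hx
    have h1 : z * k = k * z := congrArg Subtype.val (hKc.is_comm.comm (⟨z, hz⟩ : K) ⟨k, hk⟩)
    rw [mul_assoc, h1, ← mul_assoc, hkP y hy, mul_assoc]
  -- a linear character of `K` nontrivial at `k`
  set KL : Subgroup L := K.subgroupOf L with hKLdef
  have hcm : IsMulCommutative KL := by
    refine ⟨⟨fun a b => ?_⟩⟩
    apply Subtype.ext
    apply Subtype.ext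
    have h1 : (⟨((a : L) : G), a.2⟩ : K) * ⟨((b : L) : G), b.2⟩ =
      ⟨((b : L) : G), b.2⟩ * ⟨((a : L) : G), a.2⟩ := hKc.is_comm.comm _ _
    have h2 := congrArg (Subtype.val : K → G) h1
    exact h2
  let _ : CommGroup KL := { mul_comm := hcm.is_comm.comm }
  let kL : KL := ⟨⟨k, hKL hk⟩, hk⟩
  have hkL1 : kL ≠ 1 := by
    intro h
    exact hk1 (congrArg (fun a : KL => ((a : L) : G)) h)
  obtain ⟨α₀, hα₀⟩ := CommGroup.exists_apply_ne_one_of_hasEnoughRootsOfUnity KL ℂ hkL1
  let F : L →* ℂˣ := MonoidHom.transfer α₀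
  have hFk : F (kL : L) = α₀ kL ^ KL.index := by
    apply Cfsg.Agent.TwoFusion.PResidual.transfer_eq_pow_index_of_fusion
    intro j g₀ h
    congr 1
    apply Subtype.ext
    apply Subtype.ext
    change (g₀ : G)⁻¹ * k ^ j * g₀ = k ^ j
    have h2 : Commute (g₀ : G) k := hkL g₀ g₀.2
    rw [mul_assoc, ← (h2.pow_right j).eq, ← mul_assoc, inv_mul_cancel, one_mul]
  obtain ⟨m, hm⟩ : ∃ m, KL.index = 2 ^ m := by
    have h1 : KL.index ∣ Nat.card P := by
      change K.relIndex L ∣ _
      rw [hL, sup_comm, Subgroup.relIndex_sup_left]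
      exact Subgroup.relIndex_dvd_card K P
    obtain ⟨j, hj⟩ := hP.exists_card_eq
    rw [hj] at h1
    obtain ⟨m, -, hm⟩ := (Nat.dvd_prime_pow Nat.prime_two).1 h1
    exact ⟨m, hm⟩
  have hordodd : Odd (orderOf k) := by
    refine Odd.of_dvd_nat hKo ?_
    have := orderOf_dvd_natCard (⟨k, hk⟩ : K)
    rwa [← Subgroup.orderOf_coe] at this
  have hkLord : kL ^ orderOf k = 1 := by
    apply Subtype.ext
    apply Subtype.ext
    exact pow_orderOf_eq_one k
  have hF1 : F (kL : L) ≠ 1 := by
    intro h
    rw [hFk, hm] at h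
    apply hα₀
    have h2 : α₀ kL ^ orderOf k = 1 := by rw [← map_pow, hkLord, map_one]
    have h3 : orderOf (α₀ kL) ∣ Nat.gcd (2 ^ m) (orderOf k) :=
      Nat.dvd_gcd (orderOf_dvd_of_pow_eq_one h) (orderOf_dvd_of_pow_eq_one h2)
    have h4 : Nat.gcd (2 ^ m) (orderOf k) = 1 :=
      Nat.Coprime.pow_left m ((Nat.coprime_two_left).2 hordodd)
    rw [h4, Nat.dvd_one, orderOf_eq_one_iff] at h3
    exact h3
  -- an odd-degree character over `F`
  let l : L → ℂ := fun x => (F x : ℂ)
  have hl : Lin l := ⟨Characters.Linear.isIrrCharacter_hom F, by simp [l]⟩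
  obtain ⟨χ, hχ, hχo, hχl⟩ := exists_over_odd L.subtype L.subtype_injective
    (by rwa [L.range_subtype]) hl
  have hχr := hall χ hχ hχo
  let j : K →* L := Subgroup.inclusion hKL
  have hc1 := ip_comp_ne_zero (isCharacter_comp L.subtype (isIrr_isCharacter hχ)) hl hχl j
  set α : K → ℂ := l ∘ j with hα
  have hαl : Lin α := hl.comp j
  have hc2 : ip (fun a : K => χ a) α ≠ 0 := hc1
  have hc3 : ip (fun a : K => χ a) (fun a => conj (α a)) ≠ 0 := by
    have h3 : ip (fun a : K => χ a) (fun a => conj (α a)) = conj (ip (fun a : K => χ a) α) := by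
      rw [← ip_conj_conj]
      congr 1
      funext x
      exact (hχr x).symm
    rw [h3]
    simpa using hc2
  rw [ip_eq] at hc2 hc3
  obtain ⟨g, hg⟩ := exists_conj_of_constituents K hχ hαl.irr hαl.conj.irr hc2 hc3
  obtain ⟨T, hT⟩ := inertia_aux K α
  have hLT : L ≤ T := by
    intro x hx
    rw [hT]
    funext a
    change (F (j ((MulAut.conjNormal x : MulAut K) a)) : ℂ) = F (j a)
    have h1 : j ((MulAut.conjNormal x : MulAut K) a) = (⟨x, hx⟩ : L) * j a * (⟨x, hx⟩ : L)⁻¹ := by
      apply Subtype.ext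
      simp [j, MulAut.conjNormal_apply]
    rw [h1, map_mul, map_mul, map_inv, mul_comm (F ⟨x, hx⟩), mul_assoc, mul_inv_cancel, mul_one]
  have hgT : ∀ x ∈ T, g * x * g⁻¹ ∈ T := by
    intro x hx
    rw [hT] at hx ⊢
    rw [mul_assoc, comp_conjNormal_mul, comp_conjNormal_mul, ← hg]
    have h1 : (fun a => conj (α a)) ∘ (MulAut.conjNormal x : MulAut K) = fun a => conj (α a) := by
      funext a
      exact congrArg conj (congrFun hx a)
    rw [h1, hg, ← comp_conjNormal_mul, mul_inv_cancel, map_one]
    rfl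
  -- Sylow in `T`
  have hPT : P ≤ T := hPL.trans hLT
  have hgPT : P.map (MulAut.conj g).toMonoidHom ≤ T := by
    rintro _ ⟨x, hx, rfl⟩
    exact hgT x (hPT hx)
  obtain ⟨s, hs, hs'⟩ := sylow_conj_in T P (P.map (MulAut.conj g).toMonoidHom) hP (hP.map _) hodd
    (by
      have : (P.map (MulAut.conj g).toMonoidHom).index = P.index :=
        Subgroup.index_map_of_bijective (MulAut.conj g).bijective P
      rwa [this]) hPT hgPT
  have hsg : s * g ∈ Subgroup.normalizer (P : Set G) := by
    rw [Subgroup.mem_normalizer_iff]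
    intro x
    have h1 := hs' (g * x * g⁻¹)
    have h2 : g * x * g⁻¹ ∈ P.map (MulAut.conj g).toMonoidHom ↔ x ∈ P := by
      constructor
      · rintro ⟨y, hy, hy'⟩
        have : y = x := (MulAut.conj g).injective hy'
        rwa [← this]
      · intro hx
        exact ⟨x, hx, rfl⟩
    rw [h2] at h1
    rw [h1]
    have h3 : s * (g * x * g⁻¹) * s⁻¹ = s * g * x * (s * g)⁻¹ := by group
    rw [h3]
  have hgT' : g ∈ T := by
    have h1 : s * g ∈ T := hLT (hN hsg)
    have h2 := T.mul_mem (T.inv_mem hs) h1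
    rwa [inv_mul_cancel_left] at h2
  rw [hT] at hgT'
  rw [hgT'] at hg
  have h5 : conj (F (kL : L) : ℂ) = F (kL : L) := congrFun hg (⟨k, hk⟩ : K)
  have h6 : (F (kL : L) : ℂ) ^ orderOf k = 1 := by
    have h7 : F (kL : L) ^ orderOf k = 1 := by
      rw [← map_pow, ← Subgroup.coe_pow, hkLord, Subgroup.coe_one, map_one]
    rw [← Units.val_pow_eq_pow_val, h7, Units.val_one]
  exact hF1 (Units.ext (real_root hordodd h5 h6))

end sub

/-- If all odd-degree irreducible characters of the solvable group `G` are real then a Sylow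
2-subgroup is self-normalizing. -/
theorem normalizer_le_aux (n : ℕ) : ∀ (G : Type u) [Group G] [Finite G] [Group.IsSolvable G],
    Nat.card G = n → ∀ P : Subgroup G, IsPGroup 2 P → Odd P.index → AllReal G →
    Subgroup.normalizer (P : Set G) ≤ P := by
  induction n using Nat.strong_induction_on with
  | _ n ih =>
    intro G _ _ _ hG P hP hodd hall
    rcases subsingleton_or_nontrivial G with hs | hnt
    · intro g _
      rw [Subsingleton.elim g 1]
      exact P.one_mem
    · obtain ⟨p, K, hp, hKn, hKp, hKc, hK⟩ := Lib.SolvableNormalP.exists_normal_pSubgroup G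
      have hlt : Nat.card (G ⧸ K) < n := by
        rw [← hG, K.card_eq_card_quotient_mul_card_subgroup]
        have h1 : 0 < Nat.card (G ⧸ K) := Nat.card_pos
        have h2 : 1 < Nat.card K := (Subgroup.one_lt_card_iff_ne_bot K).2 hK
        nlinarith
      have h1 := ih _ hlt (G ⧸ K) rfl (P.map (QuotientGroup.mk' K)) (hP.map _)
        (odd_index_map P hodd K) (hall.quotient K)
      have h2 : Subgroup.normalizer (P : Set G) ≤ P ⊔ K := by
        intro g hg
        exact mem_sup_of_mk P K (h1 (mk_mem_normalizer P K hg))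
      by_cases hp2 : p = 2
      · subst hp2
        have := normal_le P hP hodd K hKp
        rwa [sup_eq_left.2 this] at h2
      · have hKo : Odd (Nat.card K) := by
          have : Fact p.Prime := ⟨hp⟩
          obtain ⟨j, hj⟩ := hKp.exists_card_eq
          rw [hj]
          exact (hp.odd_of_ne_two hp2).pow
        intro g hg
        have h3 := h2 hg
        rw [Subgroup.mem_sup_of_normal_right] at h3
        obtain ⟨x, hx, k, hk, rfl⟩ := h3
        have hPK : P ⊓ K = ⊥ := by
          apply Disjoint.eq_bot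
          apply Subgroup.disjoint_of_coprime_natCard
          obtain ⟨j, hj⟩ := hP.exists_card_eq
          rw [hj]
          exact Nat.Coprime.pow_left j ((Nat.coprime_two_left).2 hKo)
        have hkN : k ∈ Subgroup.normalizer (P : Set G) := by
          have h4 := (Subgroup.normalizer (P : Set G)).mul_mem
            ((Subgroup.normalizer (P : Set G)).inv_mem (Subgroup.le_normalizer hx)) hg
          rwa [inv_mul_cancel_left] at h4
        have hkP : ∀ y ∈ P, y * k = k * y := by
          intro y hy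
          have h5 : k * y * k⁻¹ ∈ P := (Subgroup.mem_normalizer_iff.1 hkN y).1 hy
          have h6 : k * y * k⁻¹ * y⁻¹ ∈ P ⊓ K := by
            refine ⟨P.mul_mem h5 (P.inv_mem hy), ?_⟩
            have h7 : k * (y * k⁻¹ * y⁻¹) ∈ K := K.mul_mem hk (hKn.conj_mem _ (K.inv_mem hk) y)
            rwa [← mul_assoc, ← mul_assoc] at h7
          rw [hPK, Subgroup.mem_bot] at h6
          have h8 : k * y * k⁻¹ = y := by
            rw [mul_inv_eq_one] at h6
            exact h6
          rw [mul_inv_eq_iff_eq_mul] at h8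
          exact h8.symm
        rw [cent_eq_one hall P hP hodd K hKc hKo h2 hk hkP, mul_one]
        exact hx

end Cfsg.Agent.H626
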